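import Cfsg.Agent.H10.GW.AltShape

/-!
# Gorenstein–Walter, the last step: the action on `W` and its consequences
-/

set_option autoImplicit false
set_option linter.unusedSectionVars false
set_option linter.style.haveILetI false

namespace Cfsg.Agent.H10.GW

open Subgroup Cfsg.Agent Cfsg.Agent.GW

universe u

variable {G : Type u} [Group G] [Finite G] {S : Sylow 2 G} {l : ℕ} {c s : G} {M : Subgroup G}

/-- The situation with the action on `W` known. -/
structure AltPM (S : Sylow 2 G) (l : ℕ) (c s : G) (M : Subgroup G) : Prop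
    extends AltData S l c s M where
  pm : ∀ m ∈ M, (∀ w ∈ coreIn M, Commute m w) ∨ ∀ w ∈ coreIn M, m * w * m⁻¹ = w⁻¹
  fixed_le : pairCore (c ^ l) s ≤ coreIn M

theorem perm_four_comm : ∀ a y : Equiv.Perm (Fin 4), a * a = 1 → Equiv.Perm.sign a = -1 →
    Equiv.Perm.sign y = 1 → ∃ x x' : Equiv.Perm (Fin 4),
      (x * a * x⁻¹ * a⁻¹) * (x' * a * x'⁻¹ * a⁻¹) = y := by
  decide +kernel

theorem perm_four_fix' : ∀ a b : Equiv.Perm (Fin 4), (a * a = 1 ∧ b * b = 1 ∧ a ≠ 1 ∧ b ≠ 1 ∧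
    a ≠ b) → ∀ y : Equiv.Perm (Fin 4), (y * y * y = 1 ∧ y * a = a * y ∧ y * b = b * y) → y = 1 := by
  decide +kernel

theorem perm_four_fix (a b y : Equiv.Perm (Fin 4)) (ha : a * a = 1) (hb : b * b = 1) (ha1 : a ≠ 1)
    (hb1 : b ≠ 1) (hab : a ≠ b) (hy : y * y * y = 1) (hya : y * a = a * y) (hyb : y * b = b * y) :
    y = 1 :=
  perm_four_fix' a b ⟨ha, hb, ha1, hb1, hab⟩ y ⟨hy, hya, hyb⟩

theorem perm_four_odd {y : Equiv.Perm (Fin 4)} (hy : Odd (orderOf y)) : y * y * y = 1 := by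
  have hd : orderOf y ∣ 24 := by
    have := orderOf_dvd_natCard y
    rwa [Nat.card_perm, Nat.card_fin, show (4 : ℕ).factorial = 24 from rfl] at this
  have h3 : orderOf y ∣ 3 :=
    (Nat.Coprime.pow_right 3 (Nat.coprime_two_right.2 hy)).dvd_of_dvd_mul_left
      (show orderOf y ∣ 2 ^ 3 * 3 by norm_num; exact hd)
  rw [mul_assoc, ← pow_two, ← pow_succ']
  exact orderOf_dvd_iff_pow_eq_one.1 h3

namespace AltData

variable (h : AltData S l c s M)
include h

theorem commutator_u_mem {m : M} : ∀ w ∈ coreIn M,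
    Commute ((m * ⟨c * s, h.u_mem⟩ * m⁻¹ * (⟨c * s, h.u_mem⟩ : M)⁻¹ : M) : G) w := by
  intro w hw
  simp only [Subgroup.coe_mul, Subgroup.coe_inv]
  have hu1 : (c * s)⁻¹ = c * s := inv_eq_of_mul_eq_one_right h.u_sq
  have h1 : c * s * w * (c * s)⁻¹ = w⁻¹ := h.u_inverts_W hw
  have hw' : (m : G)⁻¹ * w⁻¹ * (m : G) ∈ coreIn M := by
    simpa using h.conj_W (inv_mem m.2) (inv_mem hw)
  have h2 := h.u_inverts_W hw'
  refine mul_inv_eq_iff_eq_mul.1 ?_
  calc (m : G) * (c * s) * (m : G)⁻¹ * (c * s)⁻¹ * w * ((m : G) * (c * s) * (m : G)⁻¹ * (c * s)⁻¹)⁻¹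
      = (m : G) * (c * s * ((m : G)⁻¹ * ((c * s)⁻¹ * w * (c * s)) * (m : G)) * (c * s)⁻¹) *
          (m : G)⁻¹ := by group
    _ = w := by
        rw [show (c * s)⁻¹ * w * (c * s) = w⁻¹ by rw [← h1]; rw [hu1], h2]
        group

theorem mk_mul_self {m : M} (hm : (m : G) * (m : G) = 1) :
    (m : M ⧸ Cfsg.oddCore M) * m = 1 := by
  rw [← QuotientGroup.mk_mul, show m * m = 1 from Subtype.ext hm, QuotientGroup.mk_one]

theorem mk_t_ne_one : ((⟨c ^ l, h.t_mem⟩ : M) : M ⧸ Cfsg.oddCore M) ≠ 1 := fun e => by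
  have h1 := congrArg Subtype.val (h.eq_one_of_sylow (m := ⟨c ^ l, h.t_mem⟩) h.cfg.gen.z_mem e)
  exact absurd h.t_order (by rw [show c ^ l = 1 from h1, orderOf_one]; norm_num)

theorem mk_s_ne_one : ((⟨s, h.s_mem⟩ : M) : M ⧸ Cfsg.oddCore M) ≠ 1 := fun e => by
  have h1 := congrArg Subtype.val (h.eq_one_of_sylow (m := ⟨s, h.s_mem⟩) h.cfg.gen.mem_s e)
  exact absurd h.cfg.gen.os (by rw [show s = 1 from h1, orderOf_one]; norm_num)

theorem mk_t_ne_s : ((⟨c ^ l, h.t_mem⟩ : M) : M ⧸ Cfsg.oddCore M) ≠ ((⟨s, h.s_mem⟩ : M) : M ⧸ _) :=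
  fun e => h.t_ne_s (congrArg Subtype.val (h.lift_unique (Subtype.ext h.t_sq)
    (Subtype.ext (H39.mul_self_of_orderOf_eq_two h.cfg.gen.os)) e fun w hw => h.s_commute_W hw))

theorem mk_t_sq : ((⟨c ^ l, h.t_mem⟩ : M) : M ⧸ Cfsg.oddCore M) *
    ((⟨c ^ l, h.t_mem⟩ : M) : M ⧸ Cfsg.oddCore M) = 1 := h.mk_mul_self h.t_sq

/-- The fixed subgroup of `⟨t, s⟩` lies in `W` once `M / W` has no such fixed points. -/
theorem fixed_le_of {Z : Type*} [Group Z] (e : M ⧸ Cfsg.oddCore M ≃* Z)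
    (hfix : ∀ a b y : Z, a * a = 1 → b * b = 1 → a ≠ 1 → b ≠ 1 → a ≠ b → Commute y a →
      Commute y b → Odd (orderOf y) → y = 1) :
    pairCore (c ^ l) s ≤ coreIn M := by
  intro x hx
  have hxM : x ∈ M := h.two.contains (h.coreAt_le hx.1)
  set π : M →* M ⧸ Cfsg.oddCore M := QuotientGroup.mk' _
  refine h.mk_eq_one_iff.1 (show π ⟨x, hxM⟩ = 1 from e.injective ?_)
  rw [map_one]
  refine hfix (e (π ⟨c ^ l, h.t_mem⟩)) (e (π ⟨s, h.s_mem⟩)) _
    ((map_mul e _ _).symm.trans (by rw [show π _ * π _ = 1 from h.mk_t_sq, map_one]))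
    ((map_mul e _ _).symm.trans (by
      rw [show π _ * π _ = 1 from h.mk_mul_self (H39.mul_self_of_orderOf_eq_two h.cfg.gen.os), map_one]))
    (fun e1 => h.mk_t_ne_one (e.injective (e1.trans (map_one e).symm)))
    (fun e1 => h.mk_s_ne_one (e.injective (e1.trans (map_one e).symm)))
    (fun e1 => h.mk_t_ne_s (e.injective e1)) ?_ ?_ ?_
  · refine ((show Commute (⟨x, hxM⟩ : M) ⟨c ^ l, h.t_mem⟩ from Subtype.ext ?_).map π).map e
    exact mem_centralizer_singleton_iff.1 (h.coreAt_le hx.1)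
  · refine ((show Commute (⟨x, hxM⟩ : M) ⟨s, h.s_mem⟩ from Subtype.ext ?_).map π).map e
    exact mem_centralizer_singleton_iff.1 hx.2
  · rw [MulEquiv.orderOf_eq]
    refine Odd.of_dvd_nat ?_ (orderOf_map_dvd π _)
    rw [← Subgroup.orderOf_coe]
    exact odd_orderOf_of_mem h.odd_coreAt hx.1

theorem commute_of_mk_mem {K : Subgroup (M ⧸ Cfsg.oddCore M)} (hle : K ≤ h.kerBar) {m : M}
    (hm : (m : M ⧸ Cfsg.oddCore M) ∈ K) : ∀ w ∈ coreIn M, Commute (m : G) w := by
  intro w hw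
  obtain ⟨m', he, hc⟩ := h.le_kerBar_spec hle _ hm
  have hv : ((m'⁻¹ * m : M) : G) ∈ coreIn M := ⟨_, QuotientGroup.eq.1 he, rfl⟩
  have h1 := (hc w hw).mul_left (h.W_comm hv hw)
  rwa [show (m' : G) * ((m'⁻¹ * m : M) : G) = (m : G) by simp] at h1

theorem sqDet_le_kerBar {F : Type} [Field F] [Fintype F] (hodd : Odd (Fintype.card F))
    (h3 : 3 < Fintype.card F) (e : M ⧸ Cfsg.oddCore M ≃* Matrix.ProjGenLinGroup (Fin 2) F) :
    (sqDet F).comap e.toMonoidHom ≤ h.kerBar := by
  set K := (sqDet F).comap e.toMonoidHom with hKdef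
  have hK : K.index = 2 := by
    rw [hKdef, (sqDet F).index_comap_of_surjective e.surjective, index_sqDet hodd]
  haveI hN := h.normal_kerBar
  haveI : (h.kerBar.map e.toMonoidHom).Normal := hN.map _ e.surjective
  haveI : IsSimpleGroup (Matrix.ProjectiveSpecialLinearGroup (Fin 2) F) :=
    Matrix.ProjectiveSpecialLinearGroup.rank_two_simple (by rw [Nat.card_eq_fintype_card]; omega)
  have hsimp : IsSimpleGroup ↥(sqDet F) :=
    nonempty_sqDet_equiv.some.isSimpleGroup_congr.2 inferInstance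
  have hle : sqDet F ≤ h.kerBar.map e.toMonoidHom := by
    rcases hsimp.eq_bot_or_eq_top_of_normal ((h.kerBar.map e.toMonoidHom).subgroupOf (sqDet F))
      inferInstance with e1 | e1
    · exfalso
      have ht := h.mem_kerBar (m := ⟨c ^ l, h.t_mem⟩) fun w hw => h.t_commute_W hw
      have htK : e ((⟨c ^ l, h.t_mem⟩ : M) : M ⧸ Cfsg.oddCore M) ∈ sqDet F :=
        (h.index_two_facts hK).1
      have hmem : (⟨_, htK⟩ : sqDet F) ∈ (h.kerBar.map e.toMonoidHom).subgroupOf (sqDet F) :=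
        mem_subgroupOf.2 (mem_map_of_mem e.toMonoidHom ht)
      rw [e1, mem_bot] at hmem
      exact h.mk_t_ne_one (e.injective ((congrArg Subtype.val hmem).trans (map_one e).symm))
    · exact subgroupOf_eq_top.1 e1
  intro y hy
  obtain ⟨y', hy', he⟩ := hle hy
  exact e.injective he ▸ hy'

/-- The case `PGL(2,q)`. -/
theorem pm_pgl {F : Type} [Field F] [Fintype F] (hodd : Odd (Fintype.card F))
    (h3 : 3 < Fintype.card F) (e : M ⧸ Cfsg.oddCore M ≃* Matrix.ProjGenLinGroup (Fin 2) F) :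
    AltPM S l c s M := by
  set K := (sqDet F).comap e.toMonoidHom with hKdef
  have hK : K.index = 2 := by
    rw [hKdef, (sqDet F).index_comap_of_surjective e.surjective, index_sqDet hodd]
  have hKN : K ≤ h.kerBar := h.sqDet_le_kerBar hodd h3 e
  exact
    { toAltData := h
      pm := fun m hm => h.pm_of_index_two hK (h.le_kerBar_spec hKN) hm
      fixed_le := h.fixed_le_of e fun a b y ha hb ha1 hb1 hab hya hyb hy =>
        eq_one_of_centralizes (H67.two_ne_zero_of_odd hodd) ha ha1 hb hb1 hab hya hyb hy }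

theorem alt_le_kerBar (e : M ⧸ Cfsg.oddCore M ≃* Equiv.Perm (Fin 4)) :
    (alternatingGroup (Fin 4)).comap e.toMonoidHom ≤ h.kerBar := by
  set K := (alternatingGroup (Fin 4)).comap e.toMonoidHom with hKdef
  have hK : K.index = 2 := by
    rw [hKdef, (alternatingGroup (Fin 4)).index_comap_of_surjective e.surjective,
      alternatingGroup.index_eq_two]
  set a := e ((⟨c * s, h.u_mem⟩ : M) : M ⧸ Cfsg.oddCore M) with ha
  have hsign : Equiv.Perm.sign a = -1 := (Int.units_eq_one_or _).resolve_left fun e1 =>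
    (h.index_two_facts hK).2.2 (show a ∈ alternatingGroup (Fin 4) from
      Equiv.Perm.mem_alternatingGroup.2 e1)
  have ha2 : a * a = 1 := by
    rw [ha, ← map_mul, h.mk_mul_self h.u_sq, map_one]
  intro y hy
  obtain ⟨x, x', hxx⟩ := perm_four_comm a (e y) ha2 hsign
    (Equiv.Perm.mem_alternatingGroup.1 hy)
  obtain ⟨m, hm⟩ := QuotientGroup.mk'_surjective (Cfsg.oddCore M) (e.symm x)
  obtain ⟨m', hm'⟩ := QuotientGroup.mk'_surjective (Cfsg.oddCore M) (e.symm x')
  have h1 := mul_mem (h.mem_kerBar (h.commutator_u_mem (m := m)))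
    (h.mem_kerBar (h.commutator_u_mem (m := m')))
  convert h1 using 1
  apply e.injective
  rw [← hxx]
  simp only [QuotientGroup.mk_mul, QuotientGroup.mk_inv]
  rw [show ((m : M) : M ⧸ Cfsg.oddCore M) = e.symm x from hm,
    show ((m' : M) : M ⧸ Cfsg.oddCore M) = e.symm x' from hm']
  simp only [map_mul, map_inv, MulEquiv.apply_symm_apply, ha]

/-- The case `S4`. -/
theorem pm_perm (e : M ⧸ Cfsg.oddCore M ≃* Equiv.Perm (Fin 4)) : AltPM S l c s M := by
  set K := (alternatingGroup (Fin 4)).comap e.toMonoidHom with hKdef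
  have hK : K.index = 2 := by
    rw [hKdef, (alternatingGroup (Fin 4)).index_comap_of_surjective e.surjective,
      alternatingGroup.index_eq_two]
  have hKN : K ≤ h.kerBar := h.alt_le_kerBar e
  exact
    { toAltData := h
      pm := fun m hm => h.pm_of_index_two hK (h.le_kerBar_spec hKN) hm
      fixed_le := h.fixed_le_of e fun a b y ha hb ha1 hb1 hab hya hyb hy =>
        perm_four_fix a b y ha hb ha1 hb1 hab (perm_four_odd hy) hya.eq hyb.eq }

end AltData

namespace AltPM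

variable (h : AltPM S l c s M)
include h

theorem W_ne_bot : coreIn M ≠ ⊥ := by
  intro e
  have h1 := h.two.lt
  have hle := h.fixed_le
  rw [e, le_bot_iff] at hle
  rw [hle, h.one] at h1
  exact lt_irrefl _ h1

theorem W_eq : coreIn M = pairCore (c ^ l) s := le_antisymm h.W_le_pair h.fixed_le

theorem exists_W : ∃ w ∈ coreIn M, w ≠ 1 := (Subgroup.ne_bot_iff_exists_ne_one.1 h.W_ne_bot).elim
  fun w hw => ⟨w, w.2, fun e => hw (Subtype.ext e)⟩

/-- An element of `M` inverting one nontrivial element of `W` inverts all. -/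
theorem inverts_of {m w : G} (hm : m ∈ M) (hw : w ∈ coreIn M) (hw1 : w ≠ 1)
    (hi : m * w * m⁻¹ = w⁻¹) : ∀ v ∈ coreIn M, m * v * m⁻¹ = v⁻¹ :=
  (h.pm m hm).resolve_left fun hc => hw1 (h.W_eq_one hw (by
    rw [(hc w hw).eq, mul_inv_cancel_right] at hi
    nth_rewrite 1 [hi]
    exact inv_mul_cancel w))

/-- An element of `M` centralising one nontrivial element of `W` centralises all. -/
theorem commute_of {m w : G} (hm : m ∈ M) (hw : w ∈ coreIn M) (hw1 : w ≠ 1)
    (hc : Commute m w) : ∀ v ∈ coreIn M, Commute m v :=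
  (h.pm m hm).resolve_right fun hi => hw1 (h.W_eq_one hw (by
    have := hi w hw
    rw [hc.eq, mul_inv_cancel_right] at this
    nth_rewrite 1 [this]
    exact inv_mul_cancel w))

theorem commute_of_odd {m : G} (hm : m ∈ M) (ho : Odd (orderOf m)) :
    ∀ w ∈ coreIn M, Commute m w := by
  intro w hw
  rcases h.pm m hm with hc | hi
  · exact hc w hw
  obtain ⟨n, hn⟩ := ho
  have h2 : Commute (m ^ 2) w := mul_inv_eq_iff_eq_mul.1 (by
    rw [pow_two, show m * m * w * (m * m)⁻¹ = m * (m * w * m⁻¹) * m⁻¹ by group, hi w hw,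
      hi _ (inv_mem hw), inv_inv])
  have h3 : m = (m ^ 2) ^ (n + 1) := by
    rw [← pow_mul, show 2 * (n + 1) = orderOf m + 1 by omega, pow_succ, pow_orderOf_eq_one, one_mul]
  rw [h3]; exact h2.pow_left _

theorem normalizer_zpowers {a : G} (ha : a ∈ coreIn M) (ha1 : a ≠ 1) :
    normalizer (zpowers a : Set G) = M := by
  haveI := h.cfg.simple
  have hMN : M ≤ normalizer (zpowers a : Set G) := by
    intro m hm
    refine mem_normalizer_iff.2 fun x => ?_
    have key : ∀ m ∈ M, ∀ x ∈ zpowers a, m * x * m⁻¹ ∈ zpowers a := by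
      intro m hm x hx
      have hxW : x ∈ coreIn M := zpowers_le.2 ha hx
      rcases h.pm m hm with hc | hi
      · rwa [(hc x hxW).eq, mul_inv_cancel_right]
      · rw [hi x hxW]; exact inv_mem hx
    exact ⟨key m hm x, fun hx => by
      have := key m⁻¹ (inv_mem hm) _ hx
      simpa [mul_assoc] using this⟩
  have hne : normalizer (zpowers a : Set G) ≠ ⊤ := by
    intro e
    haveI := normalizer_eq_top_iff.1 e
    rcases IsSimpleGroup.eq_bot_or_eq_top_of_normal (zpowers a) inferInstance with e1 | e1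
    · exact ha1 (zpowers_eq_bot.1 e1)
    · exact h.two.proper (eq_top_iff.2 (e1 ▸ zpowers_le.2 (h.W_le ha)))
  exact (h.two.maximal.le_iff.1 hMN).resolve_left hne

/-- The centraliser of a nontrivial element of `W` lies in `M`. -/
theorem centralizer_le {a : G} (ha : a ∈ coreIn M) (ha1 : a ≠ 1) {g : G} (hg : Commute g a) :
    g ∈ M := by
  rw [← h.normalizer_zpowers ha ha1]
  refine centralizer_le_normalizer _ (mem_centralizer_iff.2 ?_)
  rintro x ⟨i, rfl⟩
  exact (hg.zpow_right i).eq.symm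

theorem normalizer_eq {g : G} (hg : ∀ m ∈ M, g * m * g⁻¹ ∈ M) : g ∈ M := by
  haveI := h.cfg.simple
  have hgn : g ∈ normalizer (M : Set G) := by
    refine mem_normalizer_iff.2 fun x => ⟨hg x, fun hx => ?_⟩
    have hle : M.map (MulAut.conj g).toMonoidHom ≤ M := by
      rintro _ ⟨m, hm, rfl⟩; exact hg m hm
    have heq : M.map (MulAut.conj g).toMonoidHom = M := eq_of_le_of_card_ge hle
      (by rw [card_map_of_injective (MulEquiv.injective _)])
    obtain ⟨m, hm, he⟩ := heq.ge hx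
    have : m = x := (MulAut.conj g).injective he
    exact this ▸ hm
  rcases h.two.maximal.le_iff.1 (le_normalizer (H := M)) with e | e
  · haveI := normalizer_eq_top_iff.1 e
    rcases IsSimpleGroup.eq_bot_or_eq_top_of_normal M inferInstance with e1 | e1
    · exact absurd h.t_order (by
        rw [show c ^ l = 1 from mem_bot.1 (e1 ▸ h.t_mem), orderOf_one]; norm_num)
    · exact absurd e1 h.two.proper
  · exact e ▸ hgn

/-- `W` is a trivial intersection set with normaliser `M`. -/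
theorem ti {a g : G} (ha : a ∈ coreIn M) (ha1 : a ≠ 1) (hga : g * a * g⁻¹ ∈ coreIn M) : g ∈ M := by
  refine h.normalizer_eq fun m hm => ?_
  have hb1 : g * a * g⁻¹ ≠ 1 := fun e => ha1 (conj_eq_one_iff.1 e)
  rw [← h.normalizer_zpowers hga hb1]
  rw [← h.normalizer_zpowers ha ha1] at hm
  have hle := Subgroup.le_normalizer_map (H := zpowers a) (MulAut.conj g).toMonoidHom
  rw [MonoidHom.map_zpowers] at hle
  exact hle (mem_map_of_mem (MulAut.conj g).toMonoidHom hm)

theorem no_index_two (H : Subgroup G) : H.index ≠ 2 := by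
  intro hH
  haveI := h.cfg.simple
  rcases IsSimpleGroup.eq_bot_or_eq_top_of_normal H (normal_of_index_eq_two hH) with e | e
  · rw [e, index_bot] at hH
    haveI : Fact (Nat.Prime 2) := ⟨Nat.prime_two⟩
    haveI := isCyclic_of_prime_card hH
    exact h.cfg.nonab inferInstance
  · rw [e, index_top] at hH; omega

theorem exists_conj {v : G} (hv : orderOf v = 2) : ∃ x : G, x * c ^ l * x⁻¹ = v :=
  isConj_iff.1 (h.cfg.gen.isConj_z_of_no_index_two h.no_index_two hv)

end AltPM

end Cfsg.Agent.H10.GW
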