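import Cfsg.Agent.H10.GW.AltSmall

/-!
# Gorenstein–Walter, the last step: counting fixed points on `G / M` for `M / W = S₄`

Every point other than `M` is fixed by at most three of the `6d` outer involutions of `M`, and
each of them fixes at least `2d` such points.
-/

set_option autoImplicit false
set_option linter.unusedSectionVars false
set_option linter.style.haveILetI false

namespace Cfsg.Agent.H10.GW

open Subgroup Cfsg.Agent Cfsg.Agent.GW

universe u

variable {G : Type u} [Group G] [Finite G] {S : Sylow 2 G} {l : ℕ} {c s : G} {M : Subgroup G}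

omit [Finite G] in
theorem smul_mk_eq_iff {a x : G} :
    a • (x : G ⧸ M) = (x : G ⧸ M) ↔ x⁻¹ * a * x ∈ M := by
  rw [MulAction.Quotient.smul_mk, QuotientGroup.eq]
  rw [smul_eq_mul, mul_inv_rev]
  constructor
  · intro h; have := inv_mem h; simpa [mul_assoc] using this
  · intro h; have := inv_mem h; simpa [mul_assoc] using this

namespace AltPM

variable (h : AltPM S l c s M) (e : M ⧸ Cfsg.oddCore M ≃* Equiv.Perm (Fin 4))
include h

theorem card_W_le_three (e : M ⧸ Cfsg.oddCore M ≃* Equiv.Perm (Fin 4)) {x : G} (hx : x ∉ M)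
    (hle : ∀ w ∈ coreIn M, x * w * x⁻¹ ∈ M) : Nat.card (coreIn M) ≤ 3 := by
  let f : ↥(coreIn M) →* Equiv.Perm (Fin 4) := (proj e).comp
    (MonoidHom.mk' (fun w => (⟨x * w * x⁻¹, hle w w.2⟩ : M))
      fun a b => Subtype.ext (by simp only [Subgroup.coe_mul]; group))
  have hf : Function.Injective f := (injective_iff_map_eq_one _).2 fun w hw => by
    by_contra hw1
    exact hx (h.ti w.2 (fun e1 => hw1 (Subtype.ext e1)) ((h.proj_eq_one e).1 hw))
  have hd := card_dvd_of_injective f hf
  rw [SymFour.card_perm] at hd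
  refine Nat.le_of_dvd (by norm_num) ?_
  exact (Nat.Coprime.pow_right 3 (Nat.coprime_two_right.2 h.odd_W)).dvd_of_dvd_mul_left
    (show Nat.card (coreIn M) ∣ 2 ^ 3 * 3 by norm_num; exact hd)

variable (hd : 3 < Nat.card (coreIn M))
include hd

/-- `W` is semiregular outside the base point. -/
theorem no_fix (e : M ⧸ Cfsg.oddCore M ≃* Equiv.Perm (Fin 4)) {a x : G} (ha : a ∈ coreIn M)
    (ha1 : a ≠ 1) (hx : x ∉ M) (hfix : x⁻¹ * a * x ∈ M) : False := by
  refine absurd (h.card_W_le_three e hx fun w hw => h.centralizer_le ha ha1 ?_) (by omega)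
  have ho : Odd (orderOf (x⁻¹ * a * x)) := by
    have := H39.orderOf_conj x⁻¹ a
    rw [inv_inv] at this
    rw [this]
    exact odd_orderOf_of_mem h.odd_W ha
  have := (Commute.conj_iff x).2 (h.commute_of_odd hfix ho w hw)
  rw [show x * (x⁻¹ * a * x) * x⁻¹ = a by group] at this
  exact this.symm

theorem eq_one_of_fix (e : M ⧸ Cfsg.oddCore M ≃* Equiv.Perm (Fin 4)) {m : M} {x : G} (hx : x ∉ M)
    (hfix : x⁻¹ * (m : G) * x ∈ M) (hm : proj e m = 1) : m = 1 := by
  by_contra hm1
  exact h.no_fix hd e ((h.proj_eq_one e).1 hm) (fun e1 => hm1 (Subtype.ext e1)) hx hfix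

omit hd in
/-- An inner involution of `M` has its centraliser in `M`. -/
theorem inner_cent_le {p : M} (hp : p * p = 1) (hp1 : proj e p ≠ 1)
    (hsg : Equiv.Perm.sign (proj e p) = 1) {g : G} (hg : Commute g (p : G)) : g ∈ M := by
  obtain ⟨y, hy⟩ := SymFour.inner_conj _ ⟨(h.t_proj e).1, (h.t_proj e).2.1, (h.t_proj e).2.2⟩ _
    ⟨by rw [← map_mul, hp, map_one], hp1, hsg⟩
  obtain ⟨m, rfl⟩ := h.proj_surjective e y
  set tM : M := ⟨c ^ l, h.t_mem⟩
  have he : ((m⁻¹ * p * m : M) : M ⧸ Cfsg.oddCore M) = (tM : M) := by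
    refine (h.proj_eq_iff e).1 ?_
    rw [map_mul, map_mul, map_inv, ← hy]; group
  have hl := congrArg Subtype.val (h.lift_unique (by
    rw [show m⁻¹ * p * m * (m⁻¹ * p * m) = m⁻¹ * (p * p) * m by group, hp]; group)
    (Subtype.ext h.t_sq) he fun w hw => h.t_commute_W hw)
  have hl' : (m : G)⁻¹ * (p : G) * m = c ^ l := by simpa [tM] using hl
  have h1 : Commute ((m : G)⁻¹ * g * m) (c ^ l) := by
    have := (Commute.conj_iff (m : G)⁻¹).2 hg
    rwa [inv_inv, hl'] at this
  have h2 := h.two.contains (mem_centralizer_singleton_iff.2 h1.eq)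
  have h3 := mul_mem (mul_mem m.2 h2) (inv_mem m.2)
  rwa [show (m : G) * ((m : G)⁻¹ * g * m) * (m : G)⁻¹ = g by group] at h3

omit hd in
/-- An element over a transposition is an involution. -/
theorem outer_sq {m : M} (hm2 : proj e m * proj e m = 1) (hsg : Equiv.Perm.sign (proj e m) = -1) :
    m * m = 1 := by
  have hW : ((m * m : M) : G) ∈ coreIn M := (h.proj_eq_one e).1 (by rw [map_mul, hm2])
  have h1 := h.inverts_of_odd e hsg _ hW
  rw [show (m : G) * ((m * m : M) : G) * (m : G)⁻¹ = ((m * m : M) : G) by simp [mul_assoc]] at h1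
  refine Subtype.ext (h.W_eq_one hW ?_)
  nth_rewrite 1 [h1]
  exact inv_mul_cancel _

open Classical in
/-- At most three outer involutions of `M` fix a point other than `M`. -/
theorem card_fixing_le [Fintype M] {x : G} (hx : x ∉ M) :
    (Finset.univ.filter fun m : M => (proj e m * proj e m = 1 ∧ Equiv.Perm.sign (proj e m) = -1) ∧
      x⁻¹ * (m : G) * x ∈ M).card ≤ 3 := by
  set A := Finset.univ.filter fun m : M => (proj e m * proj e m = 1 ∧ Equiv.Perm.sign (proj e m) = -1) ∧
    x⁻¹ * (m : G) * x ∈ M with hA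
  have hmulM : ∀ {a b : G}, x⁻¹ * a * x ∈ M → x⁻¹ * b * x ∈ M → x⁻¹ * (a * b) * x ∈ M :=
    fun {a b} ha hb => by
      have := mul_mem ha hb
      rwa [show x⁻¹ * a * x * (x⁻¹ * b * x) = x⁻¹ * (a * b) * x by group] at this
  have hinvM : ∀ {a : G}, x⁻¹ * a * x ∈ M → x⁻¹ * a⁻¹ * x ∈ M := fun {a} ha => by
    have := inv_mem ha
    rwa [show (x⁻¹ * a * x)⁻¹ = x⁻¹ * a⁻¹ * x by group] at this
  have hinj : Set.InjOn (proj e) A := by
    intro a ha b hb hab
    rw [Finset.mem_coe, hA, Finset.mem_filter] at ha hb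
    have h1 : a⁻¹ * b = 1 := h.eq_one_of_fix hd e hx
      (by simpa only [Subgroup.coe_mul, Subgroup.coe_inv] using hmulM (hinvM ha.2.2) hb.2.2)
      (by rw [map_mul, map_inv, hab, inv_mul_cancel])
    exact inv_mul_eq_one.1 h1
  rw [← Finset.card_image_of_injOn hinj]
  by_contra h4
  obtain ⟨a, ha, b, hb, y, hy, hba, hab, hya, hyb⟩ := SymFour.four_outer (T := A.image (proj e))
    (fun z hz => by
      obtain ⟨m, hm, rfl⟩ := Finset.mem_image.1 hz
      exact (Finset.mem_filter.1 hm).2.1) (by omega)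
  obtain ⟨A₁, hA₁, rfl⟩ := Finset.mem_image.1 ha
  obtain ⟨B₁, hB₁, rfl⟩ := Finset.mem_image.1 hb
  obtain ⟨X₁, hX₁, rfl⟩ := Finset.mem_image.1 hy
  rw [hA, Finset.mem_filter] at hA₁ hB₁ hX₁
  obtain ⟨hq1, hqa, hqb, hqp, hqc⟩ := SymFour.dihedral_of_three _ hA₁.2.1 _
    ⟨hB₁.2.1.1, hB₁.2.1.2, hba, hab⟩ _ ⟨hX₁.2.1.1, hX₁.2.1.2, hya, hyb⟩
  obtain ⟨hps, hp1, hpa, hpb⟩ := SymFour.mul_of_commuting _ hA₁.2.1 _
    ⟨hB₁.2.1.1, hB₁.2.1.2, hba, hab⟩
  set p : M := A₁ * B₁ with hp
  set q : M := X₁ * p * X₁⁻¹ with hq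
  have hpM : x⁻¹ * (p : G) * x ∈ M := hmulM hA₁.2.2 hB₁.2.2
  have hpp : p * p = 1 := h.eq_one_of_fix hd e hx (hmulM hpM hpM) (by
    rw [hp, map_mul, map_mul]
    calc proj e A₁ * proj e B₁ * (proj e A₁ * proj e B₁)
        = proj e A₁ * proj e A₁ * (proj e B₁ * proj e B₁) := by
          rw [mul_assoc, ← mul_assoc (proj e B₁), ← hab]; group
      _ = 1 := by rw [hA₁.2.1.1, hB₁.2.1.1, mul_one])
  set p' : M := ⟨x⁻¹ * (p : G) * x, hpM⟩ with hp'
  have hp'2 : p' * p' = 1 := Subtype.ext (by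
    show x⁻¹ * (p : G) * x * (x⁻¹ * (p : G) * x) = 1
    rw [show x⁻¹ * (p : G) * x * (x⁻¹ * (p : G) * x) = x⁻¹ * ((p * p : M) : G) * x by
      simp [mul_assoc], hpp]
    simp)
  have hp'odd : Equiv.Perm.sign (proj e p') = -1 := (Int.units_eq_one_or _).resolve_left fun he => by
    refine absurd (h.card_W_le_three e hx fun w hw =>
      h.inner_cent_le e hpp (by rw [hp, map_mul]; exact hp1) (by rw [hp, map_mul]; exact hps) ?_)
      (by omega)
    have := (Commute.conj_iff x).2 (h.commute_of_even e he w hw)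
    rw [show x * ((p' : M) : G) * x⁻¹ = p by rw [hp']; group] at this
    exact this.symm
  set Q : Subgroup M := centralizer ({p} : Set M) ⊓
    ((M.map (MulAut.conj x).toMonoidHom).subgroupOf M) with hQ
  have hQmem : ∀ m : M, m ∈ Q ↔ Commute m p ∧ x⁻¹ * (m : G) * x ∈ M := by
    intro m
    rw [hQ, Subgroup.mem_inf, mem_centralizer_singleton_iff, mem_subgroupOf]
    refine and_congr Iff.rfl ⟨?_, fun hm => ⟨_, hm, by simp [mul_assoc]⟩⟩
    rintro ⟨y, hy, hye⟩
    rw [← hye]; simpa [mul_assoc] using hy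
  -- at most four
  have hle : Nat.card Q ≤ 4 := by
    refine le_trans ?_ (SymFour.card_cent_outer _ ⟨by rw [← map_mul, hp'2, map_one], hp'odd⟩).le
    rw [← Nat.card_eq_finsetCard]
    refine Nat.card_le_card_of_injective
      (fun m => ⟨proj e ⟨x⁻¹ * ((m : M) : G) * x, ((hQmem m).1 m.2).2⟩, ?_⟩) ?_
    · simp only [Finset.mem_filter, Finset.mem_univ, true_and, ← map_mul]
      refine congrArg _ (Subtype.ext ?_)
      have hc : ((m : M) : G) * (p : G) = (p : G) * ((m : M) : G) :=
        congrArg Subtype.val ((hQmem m).1 m.2).1.eq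
      show x⁻¹ * ((m : M) : G) * x * (x⁻¹ * (p : G) * x) = x⁻¹ * (p : G) * x * (x⁻¹ * ((m : M) : G) * x)
      rw [show x⁻¹ * ((m : M) : G) * x * (x⁻¹ * (p : G) * x) = x⁻¹ * (((m : M) : G) * p) * x by group,
        hc]
      group
    · intro m m' hmm
      have he := congrArg Subtype.val hmm
      set n : Q := m⁻¹ * m' with hn
      have hnM := ((hQmem n).1 n.2).2
      have hproj : proj e ⟨x⁻¹ * ((n : M) : G) * x, hnM⟩ = 1 := by
        rw [show (⟨x⁻¹ * ((n : M) : G) * x, hnM⟩ : M) =
          (⟨x⁻¹ * ((m : M) : G) * x, ((hQmem m).1 m.2).2⟩ : M)⁻¹ *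
            ⟨x⁻¹ * ((m' : M) : G) * x, ((hQmem m').1 m'.2).2⟩ from
              Subtype.ext (by simp [hn, mul_assoc]), map_mul, map_inv]
        rw [show proj e ⟨x⁻¹ * ((m : M) : G) * x, ((hQmem m).1 m.2).2⟩ =
          proj e ⟨x⁻¹ * ((m' : M) : G) * x, ((hQmem m').1 m'.2).2⟩ from he, inv_mul_cancel]
      have hW := (h.proj_eq_one e).1 hproj
      have hi := h.inverts_of_odd e hp'odd _ hW
      have hc : Commute ((p' : M) : G) (x⁻¹ * ((n : M) : G) * x) := by
        have := (Commute.conj_iff x⁻¹).2 (show Commute (p : G) ((n : M) : G) from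
          congrArg Subtype.val ((hQmem n).1 n.2).1.eq.symm)
        rwa [inv_inv] at this
      rw [hc.eq, mul_inv_cancel_right] at hi
      have h1 : x⁻¹ * ((n : M) : G) * x = 1 := h.W_eq_one hW (by
        nth_rewrite 1 [hi]; exact inv_mul_cancel _)
      have h2 : ((n : M) : G) = 1 := by
        simpa [mul_assoc] using congrArg (fun y => x * y * x⁻¹) h1
      exact inv_mul_eq_one.1 (Subtype.ext (Subtype.ext h2) : n = 1)
  -- at least five
  have hcomm : ∀ m : M, x⁻¹ * (m : G) * x ∈ M →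
      proj e m * proj e p = proj e p * proj e m → m ∈ Q := by
    intro m hm hc
    refine (hQmem m).2 ⟨commutatorElement_eq_one_iff_commute.1 (h.eq_one_of_fix hd e hx ?_ ?_), hm⟩
    · simpa only [commutatorElement_def, Subgroup.coe_mul, Subgroup.coe_inv] using
        hmulM (hmulM (hmulM hm hpM) (hinvM hm)) (hinvM hpM)
    · rw [map_commutatorElement]
      exact commutatorElement_eq_one_iff_commute.2 hc
  have hqM : x⁻¹ * (q : G) * x ∈ M := by
    simpa only [hq, Subgroup.coe_mul, Subgroup.coe_inv] using hmulM (hmulM hX₁.2.2 hpM) (hinvM hX₁.2.2)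
  have hepq : proj e q = proj e X₁ * (proj e A₁ * proj e B₁) * (proj e X₁)⁻¹ := by
    rw [hq, hp, map_mul, map_mul, map_mul, map_inv]
  have hep : proj e p = proj e A₁ * proj e B₁ := map_mul _ _ _
  have hsub : ({1, proj e A₁, proj e B₁, proj e p, proj e q} : Finset (Equiv.Perm (Fin 4))) ⊆
      (Finset.univ.filter fun m : M => m ∈ Q).image (proj e) := by
    intro z hz
    simp only [Finset.mem_insert, Finset.mem_singleton] at hz
    simp only [Finset.mem_image, Finset.mem_filter, Finset.mem_univ, true_and]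
    rcases hz with rfl | rfl | rfl | rfl | rfl
    · exact ⟨1, one_mem Q, map_one _⟩
    · exact ⟨A₁, hcomm A₁ hA₁.2.2 (by rw [hep, mul_assoc, hab]), rfl⟩
    · exact ⟨B₁, hcomm B₁ hB₁.2.2 (by rw [hep, ← mul_assoc, ← hab]), rfl⟩
    · exact ⟨p, (hQmem p).2 ⟨Commute.refl p, hpM⟩, rfl⟩
    · exact ⟨q, hcomm q hqM (by rw [hepq, hep]; exact hqc), rfl⟩
  have h5 : ({1, proj e A₁, proj e B₁, proj e p, proj e q} : Finset (Equiv.Perm (Fin 4))).card = 5 := by
    have ha1 : proj e A₁ ≠ 1 := fun e1 => by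
      have h1 := hA₁.2.1.2; rw [e1, map_one] at h1; exact absurd h1 (by decide)
    have hb1 : proj e B₁ ≠ 1 := fun e1 => by
      have h1 := hB₁.2.1.2; rw [e1, map_one] at h1; exact absurd h1 (by decide)
    rw [← hepq] at hq1 hqa hqb hqp
    rw [← hep] at hp1 hpa hpb hqp
    rw [Finset.card_insert_of_notMem (by simp [ha1.symm, hb1.symm, hp1.symm, hq1.symm]),
      Finset.card_insert_of_notMem (by simp [hba.symm, hpa.symm, hqa.symm]),
      Finset.card_insert_of_notMem (by simp [hpb.symm, hqb.symm]),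
      Finset.card_pair hqp.symm]
  have h6 := (Finset.card_le_card hsub).trans Finset.card_image_le
  rw [h5] at h6
  have h7 : (Finset.univ.filter fun m : M => m ∈ Q).card = Nat.card Q := by
    rw [Nat.card_eq_fintype_card, Fintype.card_subtype]
  omega

open Classical in
omit hd in
theorem card_outer [Fintype M] :
    (Finset.univ.filter fun m : M => proj e m * proj e m = 1 ∧ Equiv.Perm.sign (proj e m) = -1).card =
      6 * Nat.card (coreIn M) := by
  set Y : Set (M ⧸ Cfsg.oddCore M) := {y | e y * e y = 1 ∧ Equiv.Perm.sign (e y) = -1} with hY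
  have h1 : Nat.card ↥((QuotientGroup.mk : M → M ⧸ Cfsg.oddCore M) ⁻¹' Y) =
      Nat.card (Cfsg.oddCore M) * Nat.card Y := by
    rw [Nat.card_congr (QuotientGroup.preimageMkEquivSubgroupProdSet _ Y), Nat.card_prod]
  have h2 : Nat.card Y = 6 := by
    rw [← SymFour.card_outer, ← Nat.card_eq_finsetCard]
    exact Nat.card_congr (e.toEquiv.subtypeEquiv fun y => by simp [hY])
  have h3 : Nat.card (coreIn M) = Nat.card (Cfsg.oddCore M) := by
    rw [coreIn, Subgroup.card_subtype]
  rw [h3, mul_comm, ← h2, ← h1, ← Nat.card_eq_finsetCard]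
  exact Nat.card_congr (Equiv.subtypeEquivRight fun m => by
    simp only [hY, Finset.mem_filter, Finset.mem_univ, true_and]
    exact Iff.rfl)

omit hd in
theorem card_fix_t (e : M ⧸ Cfsg.oddCore M ≃* Equiv.Perm (Fin 4)) : 2 * Nat.card (coreIn M) + 1 ≤
    Nat.card {P : G ⧸ M // (c ^ l) • P = P} := by
  classical
  haveI := Fintype.ofFinite M
  set d := Nat.card (coreIn M) with hddef
  set I := {v : M // orderOf (v : G) = 2}
  have hI : 6 * d + 3 ≤ Nat.card I := by
    have hout := h.card_outer e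
    set U := Finset.univ.filter fun m : M => proj e m * proj e m = 1 ∧ Equiv.Perm.sign (proj e m) = -1
    have hts2 : orderOf (c ^ l * s) = 2 := by simpa using h.cfg.gen.orderOf_out (l : ℤ)
    let tM : M := ⟨c ^ l, h.t_mem⟩
    let sM : M := ⟨s, h.s_mem⟩
    have hdisj : Disjoint U ({tM, sM, tM * sM} : Finset M) := by
      rw [Finset.disjoint_left]
      intro m hm hm'
      have hm2 := (Finset.mem_filter.1 hm).2.2
      simp only [Finset.mem_insert, Finset.mem_singleton] at hm'
      rcases hm' with rfl | rfl | rfl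
      · rw [(h.t_proj e).2.2] at hm2; exact absurd hm2 (by decide)
      · rw [(h.s_proj e).2.2.2] at hm2; exact absurd hm2 (by decide)
      · rw [map_mul, map_mul, (h.t_proj e).2.2, (h.s_proj e).2.2.2] at hm2; exact absurd hm2 (by decide)
    have h3 : ({tM, sM, tM * sM} : Finset M).card = 3 := by
      rw [Finset.card_insert_of_notMem, Finset.card_pair]
      · intro e1
        have := congrArg Subtype.val e1
        simp only [tM, sM, Subgroup.coe_mul] at this
        exact (H39.ne_one_of_orderOf_eq_two h.t_order) (right_eq_mul.1 this)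
      · simp only [Finset.mem_insert, Finset.mem_singleton, not_or]
        refine ⟨fun e1 => h.t_ne_s (congrArg Subtype.val e1), fun e1 => ?_⟩
        have := congrArg Subtype.val e1
        simp only [tM, sM, Subgroup.coe_mul] at this
        exact (H39.ne_one_of_orderOf_eq_two h.cfg.gen.os) (left_eq_mul.1 this)
    have hsub : U ∪ {tM, sM, tM * sM} ⊆ Finset.univ.filter fun v : M => orderOf (v : G) = 2 := by
      intro m hm
      refine Finset.mem_filter.2 ⟨Finset.mem_univ _, ?_⟩
      rcases Finset.mem_union.1 hm with hm | hm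
      · obtain ⟨-, hm2, hms⟩ := Finset.mem_filter.1 hm
        refine H39.orderOf_eq_two_of_mul_self (congrArg Subtype.val (h.outer_sq e hm2 hms)) fun e1 => ?_
        rw [show m = 1 from Subtype.ext e1, map_one, map_one] at hms
        exact absurd hms (by decide)
      · simp only [Finset.mem_insert, Finset.mem_singleton] at hm
        rcases hm with rfl | rfl | rfl
        · exact h.t_order
        · exact h.cfg.gen.os
        · exact hts2
    have := Finset.card_le_card hsub
    rw [Finset.card_union_of_disjoint hdisj, hout, h3] at this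
    rwa [Nat.card_eq_fintype_card, Fintype.card_subtype]
  choose g hg using fun v : I => h.exists_conj v.2
  set Fx : Set (G ⧸ M) := {P | (c ^ l) • P = P} with hFx
  let f : ↥(centralizer ({c ^ l} : Set G)) × I → ↥((QuotientGroup.mk : G → G ⧸ M) ⁻¹' Fx) :=
    fun p => ⟨(p.1 : G) * (g p.2)⁻¹, by
      show (c ^ l) • (((p.1 : G) * (g p.2)⁻¹ : G) : G ⧸ M) = _
      rw [smul_mk_eq_iff]
      have hc := mem_centralizer_singleton_iff.1 p.1.2
      have e1 : ((p.1 : G) * (g p.2)⁻¹)⁻¹ * c ^ l * ((p.1 : G) * (g p.2)⁻¹) = (p.2.1 : G) := by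
        rw [mul_inv_rev, inv_inv, show g p.2 * (p.1 : G)⁻¹ * c ^ l * ((p.1 : G) * (g p.2)⁻¹) =
          g p.2 * ((p.1 : G)⁻¹ * (c ^ l * p.1)) * (g p.2)⁻¹ by group, ← hc, inv_mul_cancel_left, hg]
      rw [e1]; exact p.2.1.2⟩
  have hf : Function.Injective f := by
    rintro ⟨a, v⟩ ⟨b, w⟩ hab
    have he : (a : G) * (g v)⁻¹ = (b : G) * (g w)⁻¹ := congrArg Subtype.val hab
    have key : ∀ (a : ↥(centralizer ({c ^ l} : Set G))) (v : I),
        ((a : G) * (g v)⁻¹)⁻¹ * c ^ l * ((a : G) * (g v)⁻¹) = (v.1 : G) := fun a v => by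
      rw [mul_inv_rev, inv_inv, show g v * (a : G)⁻¹ * c ^ l * ((a : G) * (g v)⁻¹) =
          g v * ((a : G)⁻¹ * (c ^ l * a)) * (g v)⁻¹ by group,
        ← mem_centralizer_singleton_iff.1 a.2, inv_mul_cancel_left, hg]
    have hvw : v = w := Subtype.ext (Subtype.ext (by rw [← key a v, ← key b w, he]))
    subst hvw
    exact Prod.ext (Subtype.ext (mul_right_cancel he)) rfl
  have h1 := Nat.card_le_card_of_injective f hf
  rw [Nat.card_prod, h.card_cent_t e, Nat.card_congr (QuotientGroup.preimageMkEquivSubgroupProdSet M Fx),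
    Nat.card_prod, h.card_M e] at h1
  have h2 : Nat.card Fx = Nat.card {P : G ⧸ M // (c ^ l) • P = P} := rfl
  rw [h2, ← hddef] at h1
  have h4 : 24 * d * (2 * d + 1) ≤ 24 * d * Nat.card {P : G ⧸ M // (c ^ l) • P = P} := by
    refine le_trans ?_ h1
    calc 24 * d * (2 * d + 1) = 8 * d * (6 * d + 3) := by ring
      _ ≤ _ := Nat.mul_le_mul_left _ hI
  exact Nat.le_of_mul_le_mul_left h4 (Nat.mul_pos (by norm_num) Nat.card_pos)

/-- The incidence bound. -/
theorem index_lower (e : M ⧸ Cfsg.oddCore M ≃* Equiv.Perm (Fin 4)) :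
    4 * Nat.card (coreIn M) ^ 2 + 1 ≤ M.index := by
  classical
  haveI := Fintype.ofFinite M
  haveI := Fintype.ofFinite (G ⧸ M)
  set d := Nat.card (coreIn M) with hddef
  set U := Finset.univ.filter fun m : M => proj e m * proj e m = 1 ∧ Equiv.Perm.sign (proj e m) = -1 with hU
  set X := Finset.univ.erase ((1 : G) : G ⧸ M) with hX
  have hUc : U.card = 6 * d := h.card_outer e
  have hlow : ∀ m ∈ U, 2 * d ≤ (X.filter fun P => (m : G) • P = P).card := by
    intro m hm
    obtain ⟨-, hm2, hms⟩ := Finset.mem_filter.1 hm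
    have ho : orderOf (m : G) = 2 := H39.orderOf_eq_two_of_mul_self
      (congrArg Subtype.val (h.outer_sq e hm2 hms)) fun e1 => by
        rw [show m = 1 from Subtype.ext e1, map_one, map_one] at hms
        exact absurd hms (by decide)
    obtain ⟨g, hg⟩ := h.exists_conj ho
    have heq : Nat.card {P : G ⧸ M // (c ^ l) • P = P} = Nat.card {P : G ⧸ M // (m : G) • P = P} :=
      Nat.card_congr ((MulAction.toPerm g).subtypeEquiv fun P => by
        rw [MulAction.toPerm_apply, ← hg, mul_smul, mul_smul, inv_smul_smul, smul_left_cancel_iff])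
    have h1 := (h.card_fix_t e).trans heq.le
    rw [Nat.card_eq_fintype_card (α := {P : G ⧸ M // (m : G) • P = P}), Fintype.card_subtype] at h1
    rw [hX, Finset.filter_erase]
    have := Finset.pred_card_le_card_erase (a := ((1 : G) : G ⧸ M))
      (s := Finset.univ.filter fun P : G ⧸ M => (m : G) • P = P)
    omega
  have hup : ∀ P ∈ X, (U.filter fun m : M => (m : G) • P = P).card ≤ 3 := by
    intro P hP
    obtain ⟨x, rfl⟩ := QuotientGroup.mk_surjective P
    have hx : x ∉ M := fun hx => (Finset.mem_erase.1 hP).1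
      (QuotientGroup.eq.2 (by simpa using inv_mem hx))
    refine le_trans (Finset.card_le_card fun m hm => ?_) (h.card_fixing_le e hd hx)
    obtain ⟨hm1, hm2⟩ := Finset.mem_filter.1 hm
    exact Finset.mem_filter.2 ⟨Finset.mem_univ _, (Finset.mem_filter.1 hm1).2, smul_mk_eq_iff.1 hm2⟩
  have key := Finset.card_mul_le_card_mul (fun (m : M) (P : G ⧸ M) => (m : G) • P = P)
    (s := U) (t := X) (m := 2 * d) (n := 3) hlow hup
  rw [hUc, hX, Finset.card_erase_of_mem (Finset.mem_univ _), Finset.card_univ,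
    ← Nat.card_eq_fintype_card, ← Subgroup.index_eq_card] at key
  have hp := h.index_pos
  have h5 : 6 * d * (2 * d) = (4 * d ^ 2) * 3 := by ring
  rw [h5] at key
  have := Nat.le_of_mul_le_mul_right key (by norm_num)
  omega

/-- The congruence. -/
theorem index_mod (e : M ⧸ Cfsg.oddCore M ≃* Equiv.Perm (Fin 4)) :
    ∃ j : ℕ, M.index = 1 + j * Nat.card (coreIn M) := by
  classical
  haveI := Fintype.ofFinite (G ⧸ M)
  set Ω := Quotient (MulAction.orbitRel ↥(coreIn M) (G ⧸ M))
  haveI := Fintype.ofFinite Ω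
  set b : Ω := Quotient.mk'' (((1 : G) : G) : G ⧸ M) with hb
  set d := Nat.card (coreIn M)
  have hbase : ∀ w : ↥(coreIn M), w • (((1 : G) : G) : G ⧸ M) = ((1 : G) : G ⧸ M) := fun w =>
    smul_mk_eq_iff.2 (by simpa using h.W_le w.2)
  have horb : ∀ P : G ⧸ M, (Quotient.mk'' P : Ω) = b ↔ P = ((1 : G) : G ⧸ M) := by
    intro P
    rw [hb, Quotient.eq'', MulAction.orbitRel_apply]
    refine ⟨?_, fun hP => hP ▸ MulAction.mem_orbit_self _⟩
    rintro ⟨w, rfl⟩
    exact hbase w
  have hstab : ∀ ω : Ω, Nat.card (↥(coreIn M) ⧸ MulAction.stabilizer ↥(coreIn M) ω.out) =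
      if ω = b then 1 else d := by
    intro ω
    split_ifs with hω
    · rw [← Subgroup.index_eq_card, Subgroup.index_eq_one, eq_top_iff]
      intro w _
      have : ω.out = ((1 : G) : G ⧸ M) := (horb _).1 (by rw [Quotient.out_eq', hω])
      rw [MulAction.mem_stabilizer_iff, this]
      exact hbase w
    · have hs : MulAction.stabilizer ↥(coreIn M) ω.out = ⊥ := by
        refine (Subgroup.eq_bot_iff_forall _).2 fun w hw => ?_
        obtain ⟨x, hx⟩ := QuotientGroup.mk_surjective ω.out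
        rw [MulAction.mem_stabilizer_iff, ← hx] at hw
        by_contra hw1
        refine h.no_fix hd e w.2 (fun e1 => hw1 (Subtype.ext e1)) (x := x) (fun hxM => hω ?_)
          (smul_mk_eq_iff.1 hw)
        rw [← Quotient.out_eq' ω]
        exact (horb _).2 (hx ▸ QuotientGroup.eq.2 (by simpa using inv_mem hxM))
      rw [hs, ← Subgroup.index_eq_card, Subgroup.index_bot]
  have h1 := Nat.card_congr (MulAction.selfEquivSigmaOrbitsQuotientStabilizer ↥(coreIn M) (G ⧸ M))
  rw [← Subgroup.index_eq_card, Nat.card_sigma, Finset.sum_congr rfl fun ω _ => hstab ω,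
    ← Finset.add_sum_erase _ _ (Finset.mem_univ b), if_pos rfl,
    Finset.sum_congr rfl fun ω hω => if_neg (Finset.mem_erase.1 hω).1, Finset.sum_const,
    smul_eq_mul] at h1
  exact ⟨_, h1⟩

end AltPM

end Cfsg.Agent.H10.GW
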