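import Cfsg.Agent.H10.GW.AltAction

/-!
# Gorenstein–Walter, the last step: `M / W` is not `PGL(2,q)` with `q ≥ 5`

For an involution `v` of `M` commuting with `t` and inverting `W`, conjugate to `t` by `x`, an
element of the torus of `v` lies in `W ^ x`, which therefore commutes with `W`.  Applied to the
three involutions of `⟨t, cs⟩` this makes elements of two tori commute, which is absurd.
-/

set_option autoImplicit false
set_option linter.unusedSectionVars false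
set_option linter.style.haveILetI false

namespace Cfsg.Agent.H10.GW

open Subgroup Cfsg.Agent Cfsg.Agent.GW

universe u

variable {G : Type u} [Group G] [Finite G] {S : Sylow 2 G} {l : ℕ} {c s : G} {M : Subgroup G}

theorem orderOf_inv_mul_inv {X : Type*} [Group X] [Finite X] {z : X} (hz : Odd (orderOf z)) :
    orderOf (z⁻¹ * z⁻¹) = orderOf z := by
  rw [← pow_two, ← orderOf_inv z]
  exact Nat.Coprime.orderOf_pow (by rw [orderOf_inv]; exact Nat.coprime_two_right.2 hz)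

theorem commute_of_commute_sq {X : Type*} [Group X] [Finite X] {z x : X} (hz : Odd (orderOf z))
    (h : Commute x (z⁻¹ * z⁻¹)) : Commute x z := by
  obtain ⟨n, hn⟩ := hz
  have h1 : z = ((z⁻¹ * z⁻¹)⁻¹) ^ (n + 1) := by
    rw [mul_inv_rev, inv_inv, ← pow_two, ← pow_mul, show 2 * (n + 1) = orderOf z + 1 by omega,
      pow_succ, pow_orderOf_eq_one, one_mul]
  rw [h1]
  exact h.inv_right.pow_right _

namespace AltPM

variable (h : AltPM S l c s M)
include h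

/-- The torus element of an outer involution commuting with `t`. -/
theorem key {F : Type} [Field F] [Fintype F] (hodd : Odd (Fintype.card F))
    (h3 : 3 < Fintype.card F) (e : M ⧸ Cfsg.oddCore M ≃* Matrix.ProjGenLinGroup (Fin 2) F)
    (v : M) (hv : orderOf (v : G) = 2) (hvt : Commute (v : G) (c ^ l))
    (hvi : ∀ w ∈ coreIn M, (v : G) * w * (v : G)⁻¹ = w⁻¹) :
    ∃ (x : G) (z : M), x * c ^ l * x⁻¹ = v ∧ z ≠ 1 ∧ Odd (orderOf (z : G)) ∧
      x⁻¹ * (z : G) * x ∈ coreIn M ∧ c ^ l * (z : G) * (c ^ l)⁻¹ = (z : G)⁻¹ ∧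
      Commute (v : G) (z : G) ∧
      (∀ w ∈ coreIn M, ∀ w' ∈ coreIn M, Commute w' (x * w * x⁻¹)) ∧
      ∀ m : M, Commute (m : G) (z : G) →
        Commute (m : M ⧸ Cfsg.oddCore M) (v : M ⧸ Cfsg.oddCore M) := by
  haveI : Finite (Matrix.ProjGenLinGroup (Fin 2) F) := Finite.of_equiv _ e.toEquiv
  set π : M →* M ⧸ Cfsg.oddCore M := QuotientGroup.mk' _
  set K := (sqDet F).comap e.toMonoidHom with hKdef
  have hK : K.index = 2 := by
    rw [hKdef, (sqDet F).index_comap_of_surjective e.surjective, index_sqDet hodd]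
  have hKN := h.toAltData.sqDet_le_kerBar hodd h3 e
  set tM : M := ⟨c ^ l, h.t_mem⟩ with htM
  obtain ⟨g, hg⟩ : ∃ g, pr g = e (π tM) := Matrix.ProjGenLinGroup.mk_surjective _
  obtain ⟨k, hk⟩ : ∃ k, pr k = e (π v) := Matrix.ProjGenLinGroup.mk_surjective _
  have hgs : IsSquare (g : Matrix (Fin 2) (Fin 2) F).det :=
    mem_sqDet.1 (hg.symm ▸ (h.index_two_facts hK).1)
  have hks : ¬ IsSquare (k : Matrix (Fin 2) (Fin 2) F).det := by
    intro hs
    obtain ⟨w, hw, hw1⟩ := h.exists_W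
    have hc := h.toAltData.commute_of_mk_mem hKN (m := v)
      (show e (π v) ∈ sqDet F from hk ▸ mem_sqDet.2 hs) w hw
    have := hvi w hw
    rw [hc.eq, mul_inv_cancel_right] at this
    refine hw1 (h.W_eq_one hw ?_)
    nth_rewrite 1 [this]
    exact inv_mul_cancel w
  have hv2 : v * v = 1 := Subtype.ext (by
    show (v : G) * v = 1
    exact H39.mul_self_of_orderOf_eq_two hv)
  have hk2 : pr k * pr k = 1 := by rw [hk, ← map_mul, ← map_mul, hv2, map_one, map_one]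
  have hk1 : pr k ≠ 1 := fun e1 => hks (mem_sqDet.1 (e1 ▸ one_mem _))
  have hg2 : pr g * pr g = 1 := by
    rw [hg, ← map_mul, show π tM * π tM = 1 from h.mk_t_sq, map_one]
  have hg1 : pr g ≠ 1 := fun e1 => h.mk_t_ne_one (e.injective ((hg.symm.trans e1).trans (map_one e).symm))
  have hgk : Commute (pr g) (pr k) := by
    rw [hg, hk]
    exact ((show Commute tM v from Subtype.ext hvt.eq.symm).map π).map e
  obtain ⟨zb, r, hr, hrodd, hzo, hzk, hzg, hzt, hzc⟩ :=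
    exists_torus_prime hodd h3 hg2 hg1 hk2 hk1 hgk hgs hks
  obtain ⟨m, hm⟩ : ∃ m, π m = e.symm zb := QuotientGroup.mk'_surjective _ _
  have hmc : ∀ w ∈ coreIn M, Commute (m : G) w := by
    refine h.toAltData.commute_of_mk_mem hKN ?_
    show π m ∈ K
    refine AltData.mem_of_odd_index_two hK ?_
    rw [hm, MulEquiv.orderOf_eq, hzo]
    exact hrodd
  have ht1 : (c ^ l)⁻¹ = c ^ l := inv_eq_of_mul_eq_one_right h.t_sq
  set z : M := m⁻¹ * (tM * m * tM⁻¹) with hz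
  have hzG : (z : G) = (m : G)⁻¹ * (c ^ l * m * (c ^ l)⁻¹) := rfl
  have hzW : ∀ w ∈ coreIn M, Commute (z : G) w := fun w hw => by
    rw [hzG]
    exact (hmc w hw).inv_left.mul_left
      (((h.t_commute_W hw).mul_left (hmc w hw)).mul_left (h.t_commute_W hw).inv_left)
  have hzinv : c ^ l * (z : G) * (c ^ l)⁻¹ = (z : G)⁻¹ := by
    rw [hzG, mul_inv_rev, inv_inv, mul_inv_rev, mul_inv_rev, inv_inv, ht1]
    calc c ^ l * ((m : G)⁻¹ * (c ^ l * m * c ^ l)) * c ^ l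
        = c ^ l * (m : G)⁻¹ * c ^ l * m * (c ^ l * c ^ l) := by group
      _ = c ^ l * ((m : G)⁻¹ * c ^ l) * m := by rw [h.t_sq]; group
  have hez : e (π z) = zb⁻¹ * zb⁻¹ := by
    rw [hz]
    simp only [map_mul, map_inv, hm, MulEquiv.apply_symm_apply]
    rw [← hg, hzg]
  have hzbo : orderOf (zb⁻¹ * zb⁻¹) = r := (orderOf_inv_mul_inv (hzo ▸ hrodd)).trans hzo
  have hpiz : orderOf (π z) = r := by rw [← MulEquiv.orderOf_eq e, hez, hzbo]
  have hzr : (z : G) ^ r = 1 := by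
    have hW : ((z ^ r : M) : G) ∈ coreIn M := h.mk_eq_one_iff.1 (by
      show π (z ^ r) = 1
      rw [map_pow, ← hpiz, pow_orderOf_eq_one])
    rw [Subgroup.coe_pow] at hW
    refine h.W_eq_one hW ?_
    have h1 : c ^ l * (z : G) ^ r * (c ^ l)⁻¹ = ((z : G) ^ r)⁻¹ := by
      rw [← conj_pow, hzinv, inv_pow]
    rw [(h.t_commute_W hW).eq, mul_inv_cancel_right] at h1
    nth_rewrite 1 [h1]
    exact inv_mul_cancel _
  have hz1 : z ≠ 1 := fun e1 => by
    rw [e1, map_one, orderOf_one] at hpiz; exact hr.one_lt.ne hpiz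
  have hzodd : Odd (orderOf (z : G)) := hrodd.of_dvd_nat (orderOf_dvd_of_pow_eq_one hzr)
  have hvz : Commute (v : G) (z : G) := by
    have he : π (v * m * v⁻¹) = π m := by
      apply e.injective
      simp only [map_mul, map_inv, hm, MulEquiv.apply_symm_apply]
      rw [← hk]
      exact mul_inv_eq_iff_eq_mul.2 hzk.eq.symm
    have hwW : ((m⁻¹ * (v * m * v⁻¹) : M) : G) ∈ coreIn M :=
      ⟨_, QuotientGroup.eq.1 he.symm, rfl⟩
    simp only [Subgroup.coe_mul, Subgroup.coe_inv] at hwW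
    obtain ⟨w, hw, hwe⟩ : ∃ w ∈ coreIn M, (v : G) * m * (v : G)⁻¹ = (m : G) * w :=
      ⟨_, hwW, by group⟩
    refine mul_inv_eq_iff_eq_mul.1 ?_
    calc (v : G) * z * (v : G)⁻¹
        = ((v : G) * m * (v : G)⁻¹)⁻¹ * (((v : G) * c ^ l * (v : G)⁻¹) * ((v : G) * m * (v : G)⁻¹) *
          ((v : G) * c ^ l * (v : G)⁻¹)⁻¹) := by rw [hzG]; group
      _ = w⁻¹ * ((m : G)⁻¹ * (c ^ l * m * (w * (c ^ l)⁻¹))) := by
          rw [hwe, hvt.eq, mul_inv_cancel_right]; group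
      _ = w⁻¹ * (((m : G)⁻¹ * (c ^ l * m * (c ^ l)⁻¹)) * w) := by
          rw [show w * (c ^ l)⁻¹ = (c ^ l)⁻¹ * w from (h.t_commute_W hw).inv_left.eq.symm]; group
      _ = z := by rw [← hzG, (hzW w hw).eq, inv_mul_cancel_left]
  obtain ⟨x, hx⟩ := h.exists_conj hv
  have hz' : Commute (x⁻¹ * (z : G) * x) (c ^ l) := by
    have := (Commute.conj_iff x⁻¹).2 hvz.symm
    rw [← hx, inv_inv] at this
    rwa [show x⁻¹ * (x * c ^ l * x⁻¹) * x = c ^ l by group] at this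
  have hz'M : x⁻¹ * (z : G) * x ∈ M :=
    h.two.contains (mem_centralizer_singleton_iff.2 hz'.eq)
  have hord : orderOf (x⁻¹ * (z : G) * x) = orderOf (z : G) := by
    simpa using H39.orderOf_conj x⁻¹ (z : G)
  have hz'W : x⁻¹ * (z : G) * x ∈ coreIn M := by
    refine h.mk_eq_one_iff.1 (show π ⟨_, hz'M⟩ = 1 from ?_)
    by_contra hne
    have hd : orderOf (π ⟨x⁻¹ * (z : G) * x, hz'M⟩) ∣ r := by
      refine (orderOf_map_dvd π _).trans ?_
      rw [← Subgroup.orderOf_coe, hord]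
      exact orderOf_dvd_of_pow_eq_one hzr
    rcases (Nat.dvd_prime hr).1 hd with e1 | e1
    · exact hne (orderOf_eq_one_iff.1 e1)
    · refine hzt (e (π ⟨x⁻¹ * (z : G) * x, hz'M⟩)) ?_ (by rw [MulEquiv.orderOf_eq, e1])
      rw [hg]
      exact ((show Commute (⟨_, hz'M⟩ : M) tM from Subtype.ext hz'.eq).map π).map e
  have hz'1 : x⁻¹ * (z : G) * x ≠ 1 := fun e1 =>
    hz1 (Subtype.ext (by simpa [mul_assoc] using congrArg (fun y => x * y * x⁻¹) e1))
  refine ⟨x, z, hx, hz1, hzodd, hz'W, hzinv, hvz, fun w hw w' hw' => ?_, fun n hn => ?_⟩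
  · have hM : x⁻¹ * w' * x ∈ M := by
      refine h.centralizer_le hz'W hz'1 ?_
      have := (Commute.conj_iff x⁻¹).2 (hzW w' hw').symm
      rwa [inv_inv] at this
    have ho : Odd (orderOf (x⁻¹ * w' * x)) := by
      have := H39.orderOf_conj x⁻¹ w'
      rw [inv_inv] at this
      rw [this]
      exact odd_orderOf_of_mem h.odd_W hw'
    have := (Commute.conj_iff x).2 (h.commute_of_odd hM ho w hw)
    rwa [show x * (x⁻¹ * w' * x) * x⁻¹ = w' by group] at this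
  · have h1 : Commute (e (π n)) (zb⁻¹ * zb⁻¹) :=
      hez ▸ ((show Commute n z from Subtype.ext hn.eq).map π).map e
    have h2 := hzc _ (commute_of_commute_sq (hzo ▸ hrodd) h1)
    rw [hk] at h2
    have := h2.map e.symm
    rwa [e.symm_apply_apply, e.symm_apply_apply] at this

/-- `M / W` is not `PGL(2,q)`, `q ≥ 5`. -/
theorem not_pgl {F : Type} [Field F] [Fintype F] (hodd : Odd (Fintype.card F))
    (h3 : 3 < Fintype.card F) (e : M ⧸ Cfsg.oddCore M ≃* Matrix.ProjGenLinGroup (Fin 2) F) :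
    False := by
  have htu : Commute (c * s) (c ^ l) := h.commute_t h.u_mem_sylow
  have ht1 : (c ^ l)⁻¹ = c ^ l := inv_eq_of_mul_eq_one_right h.t_sq
  obtain ⟨x₁, z₁, hx₁, hz₁, hz₁o, hz₁W, hz₁i, -, -, hz₁k⟩ := h.key hodd h3 e ⟨c * s, h.u_mem⟩
    h.u_order htu fun w hw => h.u_inverts_W hw
  dsimp only at hx₁
  have hz₁1 : x₁⁻¹ * (z₁ : G) * x₁ ≠ 1 := fun e1 =>
    hz₁ (Subtype.ext (by simpa [mul_assoc] using congrArg (fun y => x₁ * y * x₁⁻¹) e1))
  -- `t ^ x₁` inverts `W`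
  have ht'c : Commute (x₁⁻¹ * c ^ l * x₁) (c ^ l) := by
    have := (Commute.conj_iff x₁⁻¹).2 htu.symm
    rw [← hx₁, inv_inv] at this
    rwa [show x₁⁻¹ * (x₁ * c ^ l * x₁⁻¹) * x₁ = c ^ l by group] at this
  have ht'M : x₁⁻¹ * c ^ l * x₁ ∈ M := h.two.contains (mem_centralizer_singleton_iff.2 ht'c.eq)
  have ht'i : ∀ w ∈ coreIn M, x₁⁻¹ * c ^ l * x₁ * w * (x₁⁻¹ * c ^ l * x₁)⁻¹ = w⁻¹ := by
    refine h.inverts_of ht'M hz₁W hz₁1 ?_
    calc x₁⁻¹ * c ^ l * x₁ * (x₁⁻¹ * z₁ * x₁) * (x₁⁻¹ * c ^ l * x₁)⁻¹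
        = x₁⁻¹ * (c ^ l * z₁ * (c ^ l)⁻¹) * x₁ := by group
      _ = _ := by rw [hz₁i]; group
  -- the third involution
  have hv2o : orderOf (c ^ l * (c * s)) = 2 := by
    have := h.cfg.gen.orderOf_out ((l : ℤ) + 1)
    rwa [zpow_add, zpow_natCast, zpow_one, mul_assoc] at this
  have hv2c : Commute (c ^ l * (c * s)) (c ^ l) := (Commute.refl _).mul_left htu
  have hv2M : c ^ l * (c * s) ∈ M := mul_mem h.t_mem h.u_mem
  have hv2i : ∀ w ∈ coreIn M, c ^ l * (c * s) * w * (c ^ l * (c * s))⁻¹ = w⁻¹ := fun w hw => by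
    rw [show c ^ l * (c * s) * w * (c ^ l * (c * s))⁻¹ = c ^ l * (c * s * w * (c * s)⁻¹) * (c ^ l)⁻¹ by group,
      h.u_inverts_W hw, (h.t_commute_W (inv_mem hw)).eq, mul_inv_cancel_right]
  set v' := x₁⁻¹ * (c ^ l * (c * s)) * x₁ with hv'
  have hv'e : v' = x₁⁻¹ * c ^ l * x₁ * c ^ l := by rw [hv', ← hx₁]; group
  have hv'M : v' ∈ M := hv'e ▸ mul_mem ht'M h.t_mem
  have hv'o : orderOf v' = 2 := by
    rw [← hv2o, hv']
    simpa using H39.orderOf_conj x₁⁻¹ (c ^ l * (c * s))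
  have hv'i : ∀ w ∈ coreIn M, v' * w * v'⁻¹ = w⁻¹ := fun w hw => by
    rw [hv'e, show x₁⁻¹ * c ^ l * x₁ * c ^ l * w * (x₁⁻¹ * c ^ l * x₁ * c ^ l)⁻¹ =
      x₁⁻¹ * c ^ l * x₁ * (c ^ l * w * (c ^ l)⁻¹) * (x₁⁻¹ * c ^ l * x₁)⁻¹ by group,
      (h.t_commute_W hw).eq, mul_inv_cancel_right, ht'i w hw]
  obtain ⟨y, -, hy, -, -, -, -, -, hyW, -⟩ := h.key hodd h3 e ⟨v', hv'M⟩ hv'o
    (show Commute v' (c ^ l) by rw [hv'e]; exact ht'c.mul_left (Commute.refl _)) hv'i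
  obtain ⟨x₂, z₂, hx₂, hz₂, hz₂o, hz₂W, hz₂i, hz₂v, -, -⟩ := h.key hodd h3 e
    ⟨c ^ l * (c * s), hv2M⟩ hv2o hv2c hv2i
  dsimp only at hy hx₂ hz₂v
  set n := x₂⁻¹ * (x₁ * y) with hn
  have hnM : n ∈ M := by
    refine h.two.contains (mem_centralizer_singleton_iff.2 (mul_inv_eq_iff_eq_mul.1 ?_))
    calc n * c ^ l * n⁻¹ = x₂⁻¹ * (x₁ * (y * c ^ l * y⁻¹) * x₁⁻¹) * x₂ := by rw [hn]; group
      _ = c ^ l := by
        rw [hy, hv', show x₁ * (x₁⁻¹ * (c ^ l * (c * s)) * x₁) * x₁⁻¹ = c ^ l * (c * s) by group,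
          ← hx₂]
        group
  have hw₂ : n⁻¹ * (x₂⁻¹ * (z₂ : G) * x₂) * n ∈ coreIn M := by
    simpa using h.conj_W (inv_mem hnM) hz₂W
  have hcomm : Commute (z₂ : G) (z₁ : G) := by
    have h1 := (Commute.conj_iff x₁).2 (hyW _ hw₂ _ hz₁W)
    rw [show x₁ * (x₁⁻¹ * (z₁ : G) * x₁) * x₁⁻¹ = z₁ by group, hn,
      show x₁ * (y * ((x₂⁻¹ * (x₁ * y))⁻¹ * (x₂⁻¹ * (z₂ : G) * x₂) * (x₂⁻¹ * (x₁ * y))) * y⁻¹) *
        x₁⁻¹ = z₂ by group] at h1
    exact h1.symm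
  set π : M →* M ⧸ Cfsg.oddCore M := QuotientGroup.mk' _
  have h1 : Commute (π z₂) (π ⟨c * s, h.u_mem⟩) := hz₁k z₂ hcomm
  have h2 : Commute (π z₂) (π ⟨c ^ l * (c * s), hv2M⟩) :=
    (show Commute z₂ ⟨c ^ l * (c * s), hv2M⟩ from Subtype.ext hz₂v.eq.symm).map π
  have h3' : Commute (π z₂) (π ⟨c ^ l, h.t_mem⟩) := by
    have h12 := h2.mul_right h1.inv_right
    rwa [← map_inv, ← map_mul, show (⟨c ^ l * (c * s), hv2M⟩ : M) * (⟨c * s, h.u_mem⟩ : M)⁻¹ =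
      ⟨c ^ l, h.t_mem⟩ from Subtype.ext (mul_inv_cancel_right _ _)] at h12
  have h4 : π z₂ * π z₂ = 1 := by
    have e1 : (⟨c ^ l, h.t_mem⟩ : M) * z₂ * (⟨c ^ l, h.t_mem⟩ : M)⁻¹ = z₂⁻¹ := Subtype.ext hz₂i
    have e2 := congrArg π e1
    rw [map_mul, map_mul, map_inv, map_inv, ← h3'.eq, mul_inv_cancel_right] at e2
    nth_rewrite 1 [e2]
    exact inv_mul_cancel _
  have hod : Odd (orderOf (π z₂)) :=
    Odd.of_dvd_nat (by rwa [← Subgroup.orderOf_coe]) (orderOf_map_dvd π z₂)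
  have hW : (z₂ : G) ∈ coreIn M := h.mk_eq_one_iff.1 (eq_one_of_odd_sq h4 hod)
  refine hz₂ (Subtype.ext (h.W_eq_one hW ?_))
  have := hv2i _ hW
  rw [hz₂v.eq, mul_inv_cancel_right] at this
  nth_rewrite 1 [this]
  exact inv_mul_cancel _

end AltPM

end Cfsg.Agent.H10.GW
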