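import Cfsg.Agent.H5.EvenCyclic.Outer
import Cfsg.Agent.H67.TwoByTwo
import Cfsg.Agent.Linear.TwoGL
import Cfsg.Agent.Linear.TwoTorus

/-!
# Gorenstein–Walter, the last step: tori of commuting involutions of `PGL(2,q)`

For commuting involutions `a`, `b`, one in `PSL` and the other not, the torus of `b` holds an
element of odd prime order `r` inverted by `a` whose centraliser centralises `b`, while `r` is
prime to the centraliser of `a`.
-/

set_option autoImplicit false
set_option linter.unusedSectionVars false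
set_option linter.style.haveILetI false

namespace Cfsg.Agent.H10.GW

open Matrix

variable {F : Type} [Field F] [Fintype F]

local notation "M2" => Matrix (Fin 2) (Fin 2) F
local notation "G2" => GL (Fin 2) F
local notation "P2" => Matrix.ProjGenLinGroup (Fin 2) F

/-- The projection. -/
noncomputable abbrev pr : G2 →* P2 := Matrix.ProjGenLinGroup.mk

theorem pr_eq_one {g : G2} : pr g = 1 ↔ ∃ c : F, (g : M2) = c • 1 :=
  (QuotientGroup.eq_one_iff g).trans H67.mem_center_GL_two

theorem pr_ne_one {g : G2} (h : pr g ≠ 1) : ¬ Linear.IsScalarTwo (g : M2) := fun hs =>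
  h (pr_eq_one.2 (Linear.isScalarTwo_iff.1 hs))

/-- Elements commuting modulo scalars commute up to sign. -/
theorem sign_of_commute {x y : G2} (h : Commute (pr x) (pr y)) :
    x * y = y * x ∨ ((x * y : G2) : M2) = -((y * x : G2) : M2) := by
  have h1 : pr (x * y * x⁻¹ * y⁻¹) = 1 := by
    simp only [map_mul, map_inv, h.eq]; group
  obtain ⟨c, hc⟩ := pr_eq_one.1 h1
  have h2 : ((x * y : G2) : M2) = c • ((y * x : G2) : M2) := by
    calc ((x * y : G2) : M2) = ((x * y * x⁻¹ * y⁻¹ * (y * x) : G2) : M2) := by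
          rw [show x * y * x⁻¹ * y⁻¹ * (y * x) = x * y by group]
      _ = _ := by rw [Units.val_mul, hc, smul_mul_assoc, one_mul]
  have hdet := congrArg Matrix.det h2
  rw [Matrix.det_smul, Fintype.card_fin, Units.val_mul, Units.val_mul, Matrix.det_mul,
    Matrix.det_mul, mul_comm (x : M2).det] at hdet
  have hc2 : c ^ 2 = 1 := by
    have hne : (y : M2).det * (x : M2).det ≠ 0 := mul_ne_zero
      (GeneralLinearGroup.det y).ne_zero (GeneralLinearGroup.det x).ne_zero
    exact (mul_left_eq_self₀.1 hdet.symm).resolve_right hne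
  rcases sq_eq_one_iff.1 hc2 with rfl | rfl
  · exact Or.inl (Units.ext (by rw [h2, one_smul]))
  · exact Or.inr (by rw [h2, neg_smul, one_smul])

/-- An element of odd order commuting modulo scalars commutes. -/
theorem commute_of_odd (h2 : (2 : F) ≠ 0) {x y : G2} (h : Commute (pr y) (pr x))
    (hodd : Odd (orderOf (pr y))) : y * x = x * y := by
  rcases sign_of_commute h with e | e
  · exact e
  exfalso
  rw [Units.val_mul, Units.val_mul] at e
  have key : ∀ n : ℕ, (y : M2) ^ n * (x : M2) = (-1 : F) ^ n • ((x : M2) * (y : M2) ^ n) := by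
    intro n
    induction n with
    | zero => simp
    | succ n ih =>
      rw [pow_succ (y : M2), mul_assoc, e, mul_neg, ← mul_assoc, ih, smul_mul_assoc, mul_assoc,
        ← neg_smul, pow_succ, mul_neg_one]
  obtain ⟨c, hc⟩ := pr_eq_one.1 (show pr (y ^ orderOf (pr y)) = 1 by rw [map_pow, pow_orderOf_eq_one])
  have h3 := key (orderOf (pr y))
  rw [← Units.val_pow_eq_pow_val, hc, hodd.neg_one_pow, smul_mul_assoc, one_mul, mul_smul_comm,
    mul_one, neg_one_smul] at h3
  have h4 : (2 * c) • (x : M2) = 0 := by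
    rw [mul_smul, two_smul]
    exact add_eq_zero_iff_eq_neg.2 h3
  rcases smul_eq_zero.1 h4 with h5 | h5
  · have hc0 : c ≠ 0 := by
      rintro rfl
      have := (GeneralLinearGroup.det (y ^ orderOf (pr y))).ne_zero
      rw [GeneralLinearGroup.val_det_apply, hc, zero_smul, Matrix.det_zero] at this
      exact this rfl
    exact mul_ne_zero h2 hc0 h5
  · exact (GeneralLinearGroup.det x).ne_zero (by
      rw [GeneralLinearGroup.val_det_apply, h5, Matrix.det_zero])

/-- A representative of an involution squares to a scalar and has trace zero. -/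
theorem sq_scalar {g : G2} (hg : pr g * pr g = 1) (hg1 : pr g ≠ 1) :
    (g : M2) * (g : M2) = (-(g : M2).det) • 1 ∧ (g : M2).trace = 0 := by
  have h1 : pr (g * g) = 1 := by rw [map_mul, hg]
  obtain ⟨c, hc⟩ := pr_eq_one.1 h1
  rw [Units.val_mul] at hc
  have hns := pr_ne_one hg1
  have hch : (g : M2) * (g : M2) = (g : M2).trace • (g : M2) - (g : M2).det • 1 := by
    rw [Matrix.det_fin_two, Matrix.trace_fin_two]
    apply Linear.ext_two <;> simp [Linear.mul_two_apply] <;> ring
  have h2 : c • (1 : M2) + (0 : F) • (g : M2) =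
      (-(g : M2).det) • (1 : M2) + (g : M2).trace • (g : M2) := by
    rw [zero_smul, add_zero, ← hc, hch, neg_smul]; abel
  obtain ⟨e1, e2⟩ := Linear.smul_add_smul_injective hns h2
  exact ⟨hc.trans (by rw [e1]), e2.symm⟩

/-- An element of the commutant of a trace zero matrix whose square is scalar. -/
theorem exists_span {g x : G2} (hg1 : pr g ≠ 1) (h : x * g = g * x) :
    ∃ α β : F, (x : M2) = α • (1 : M2) + β • (g : M2) :=
  (Linear.mem_centralizer_GL_two (pr_ne_one hg1)).1 (Subgroup.mem_centralizer_singleton_iff.2 h)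

/-- An involution commuting exactly with a representative of another is equal to it. -/
theorem eq_of_commute_exact (h2 : (2 : F) ≠ 0) {g h : G2} (hg : pr g * pr g = 1) (hg1 : pr g ≠ 1)
    (hh : pr h * pr h = 1) (hh1 : pr h ≠ 1) (hc : h * g = g * h) : pr h = pr g := by
  obtain ⟨α, β, hx⟩ := exists_span hg1 hc
  have ht := (sq_scalar hh hh1).2
  rw [hx, Linear.trace_smul_add_smul, (sq_scalar hg hg1).2, mul_zero, add_zero] at ht
  have hα : α = 0 := (mul_eq_zero.1 ht).resolve_left h2
  rw [hα, zero_smul, zero_add] at hx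
  have h3 : pr (h * g⁻¹) = 1 := pr_eq_one.2 ⟨β, by
    rw [Units.val_mul, hx, smul_mul_assoc, ← Units.val_mul, mul_inv_cancel, Units.val_one]⟩
  rwa [map_mul, map_inv, mul_inv_eq_one] at h3

/-- Only the identity of odd order centralises two commuting involutions. -/
theorem eq_one_of_centralizes (h2 : (2 : F) ≠ 0) {a b y : P2} (ha : a * a = 1) (ha1 : a ≠ 1)
    (hb : b * b = 1) (hb1 : b ≠ 1) (hab : a ≠ b) (hya : Commute y a) (hyb : Commute y b)
    (hy : Odd (orderOf y)) : y = 1 := by
  obtain ⟨g, rfl⟩ := Matrix.ProjGenLinGroup.mk_surjective a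
  obtain ⟨h, rfl⟩ := Matrix.ProjGenLinGroup.mk_surjective b
  obtain ⟨x, rfl⟩ := Matrix.ProjGenLinGroup.mk_surjective y
  obtain ⟨α, β, hx⟩ := exists_span ha1 (commute_of_odd h2 hya hy)
  have hc := congrArg Units.val (commute_of_odd h2 hyb hy)
  rw [Units.val_mul, Units.val_mul, hx] at hc
  simp only [add_mul, mul_add, smul_mul_assoc, mul_smul_comm, one_mul, mul_one] at hc
  rcases eq_or_ne β 0 with rfl | hβ
  · exact pr_eq_one.2 ⟨α, by rw [hx, zero_smul, add_zero]⟩
  have hc' : (g : M2) * (h : M2) = (h : M2) * (g : M2) :=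
    smul_right_injective M2 hβ (add_left_cancel hc)
  exact absurd (eq_of_commute_exact h2 ha ha1 hb hb1 (Units.ext hc'.symm)).symm hab

/-- The torus of an involution. -/
noncomputable def torusOf (g : G2) : Subgroup P2 := (Subgroup.centralizer {g}).map pr

theorem card_center : Nat.card (Subgroup.center G2) = Fintype.card F - 1 := by
  have hinj : Function.Injective (Matrix.GeneralLinearGroup.scalar (R := F) (Fin 2)) := fun a b h =>
    Units.ext (Matrix.scalar_inj.mp (congrArg Units.val h))
  rw [Matrix.GeneralLinearGroup.center_eq_range_scalar,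
    Nat.card_congr (MonoidHom.ofInjective hinj).symm.toEquiv, Nat.card_units,
    Nat.card_eq_fintype_card]

theorem card_torusOf_mul (g : G2) :
    Nat.card (torusOf g) * (Fintype.card F - 1) = Nat.card (Subgroup.centralizer {g}) := by
  have hle : Subgroup.center G2 ≤ Subgroup.centralizer {g} := Subgroup.center_le_centralizer _
  have hker : (pr.comp (Subgroup.centralizer {g}).subtype).ker =
      (Subgroup.center G2).subgroupOf (Subgroup.centralizer {g}) := by
    rw [← MonoidHom.comap_ker]
    exact congrArg _ (QuotientGroup.ker_mk' _)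
  rw [← card_center, ← Nat.card_congr (Subgroup.subgroupOfEquivOfLe hle).toEquiv, ← hker,
    ← Subgroup.card_mul_index (pr.comp (Subgroup.centralizer {g}).subtype).ker, mul_comm,
    Subgroup.index_ker]
  congr 1
  rw [torusOf, MonoidHom.range_comp, Subgroup.range_subtype]

open Classical in
theorem card_torusOf (hodd : Odd (Fintype.card F)) {g : G2} (hg : pr g * pr g = 1) (hg1 : pr g ≠ 1) :
    Nat.card (torusOf g) =
      if IsSquare (-(g : M2).det) then Fintype.card F - 1 else Fintype.card F + 1 := by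
  have h2 := H67.two_ne_zero_of_odd hodd
  have hq := Fintype.one_lt_card (α := F)
  have htr := (sq_scalar hg hg1).2
  have hdet := (GeneralLinearGroup.det g).ne_zero
  rw [GeneralLinearGroup.val_det_apply] at hdet
  have hm := card_torusOf_mul g
  split_ifs with hs
  · obtain ⟨r, hr⟩ := hs
    have hr0 : r ≠ 0 := fun e => hdet (by rw [e, mul_zero, neg_eq_zero] at hr; exact hr)
    rw [Linear.card_centralizer_split (r := r) (s := -r)
      (fun e => mul_ne_zero h2 hr0 (by linear_combination e)) (by rw [htr, add_neg_cancel])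
      (by linear_combination hr), sq] at hm
    exact Nat.eq_of_mul_eq_mul_right (by omega) hm
  · rw [Linear.card_centralizer_noEigen (fun c hc => hs ⟨c, by rw [htr] at hc; linear_combination -hc⟩)] at hm
    refine Nat.eq_of_mul_eq_mul_right (show 0 < Fintype.card F - 1 by omega) (hm.trans ?_)
    have := Nat.sq_sub_sq (Fintype.card F) 1
    rwa [one_pow] at this

theorem mem_torusOf_of_odd (h2 : (2 : F) ≠ 0) {g : G2} {y : P2} (hy : Commute y (pr g))
    (hodd : Odd (orderOf y)) : y ∈ torusOf g := by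
  obtain ⟨x, rfl⟩ := Matrix.ProjGenLinGroup.mk_surjective y
  exact ⟨x, Subgroup.mem_centralizer_singleton_iff.2 (commute_of_odd h2 hy hodd), rfl⟩

/-- The torus element. -/
theorem exists_torus_prime (hodd : Odd (Fintype.card F)) (h3 : 3 < Fintype.card F) {g h : G2}
    (hg : pr g * pr g = 1) (hg1 : pr g ≠ 1) (hh : pr h * pr h = 1) (hh1 : pr h ≠ 1)
    (hgh : Commute (pr g) (pr h)) (hgs : IsSquare (g : M2).det) (hhs : ¬ IsSquare (h : M2).det) :
    ∃ z : P2, ∃ r : ℕ, r.Prime ∧ Odd r ∧ orderOf z = r ∧ Commute z (pr h) ∧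
      pr g * z * (pr g)⁻¹ = z⁻¹ ∧ (∀ y : P2, Commute y (pr g) → orderOf y ≠ r) ∧
      ∀ x : P2, Commute x z → Commute x (pr h) := by
  classical
  have h2 := H67.two_ne_zero_of_odd hodd
  have hne : pr h ≠ pr g := by
    intro e
    obtain ⟨c, hc⟩ := pr_eq_one.1 (show pr (h * g⁻¹) = 1 by rw [map_mul, map_inv, e, mul_inv_cancel])
    have hhg : (h : M2) = c • (g : M2) := by
      rw [← inv_mul_cancel_right h g, Units.val_mul, hc, smul_mul_assoc, one_mul]
    exact hhs (by rw [hhg, Matrix.det_smul, Fintype.card_fin]; exact (IsSquare.sq c).mul hgs)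
  have hanti : ((g * h : G2) : M2) = -((h * g : G2) : M2) :=
    (sign_of_commute hgh).resolve_left fun e => hne (eq_of_commute_exact h2 hg hg1 hh hh1 e.symm)
  -- orders of the two tori
  have hnh := (GeneralLinearGroup.det h).ne_zero
  rw [GeneralLinearGroup.val_det_apply] at hnh
  have hng := (GeneralLinearGroup.det g).ne_zero
  rw [GeneralLinearGroup.val_det_apply] at hng
  have hcases : (Nat.card (torusOf g) = Fintype.card F - 1 ∧
        Nat.card (torusOf h) = Fintype.card F + 1 ∧ Fintype.card F % 4 = 1) ∨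
      (Nat.card (torusOf g) = Fintype.card F + 1 ∧
        Nat.card (torusOf h) = Fintype.card F - 1 ∧ Fintype.card F % 4 = 3) := by
    have hq4 := Nat.odd_mod_four_iff.1 (Nat.odd_iff.1 hodd)
    have hns : ∀ {x y : F}, y ≠ 0 → IsSquare y → IsSquare (x * y) → IsSquare x := by
      intro x y hy hy2 hxy
      have := hxy.mul hy2.inv
      rwa [mul_inv_cancel_right₀ hy] at this
    rw [card_torusOf hodd hg hg1, card_torusOf hodd hh hh1]
    by_cases hm : IsSquare (-1 : F)
    · refine Or.inl ⟨if_pos (by simpa using hm.mul hgs), if_neg fun hc => hhs ?_, ?_⟩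
      · simpa using hm.mul hc
      · have := FiniteField.isSquare_neg_one_iff.1 hm; omega
    · refine Or.inr ⟨if_neg fun hc => hm (hns hng hgs (by simpa using hc)), if_pos ?_, ?_⟩
      · obtain ⟨u, hu⟩ := H5.EvenCyclic.exists_sq_of_not_sq hodd (a := (-1 : Fˣ))
          (b := GeneralLinearGroup.det h) (by simpa using hm) hhs
        exact ⟨u, by simpa using congrArg Units.val hu⟩
      · exact not_not.1 fun e => hm (FiniteField.isSquare_neg_one_iff.2 e)
  obtain ⟨n, hn, hn2, hr4⟩ : ∃ n : ℕ, Nat.card (torusOf h) = 2 * n ∧ Odd n ∧ 2 ≤ n := by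
    rcases hcases with ⟨-, e, h4⟩ | ⟨-, e, h4⟩
    · exact ⟨(Fintype.card F + 1) / 2, by omega, Nat.odd_iff.2 (by omega), by omega⟩
    · exact ⟨(Fintype.card F - 1) / 2, by omega, Nat.odd_iff.2 (by omega), by omega⟩
  haveI : Finite P2 := Finite.of_surjective _ Matrix.ProjGenLinGroup.mk_surjective
  set r := n.minFac
  have hr : r.Prime := Nat.minFac_prime (by omega)
  have hrodd : Odd r := hn2.of_dvd_nat (Nat.minFac_dvd n)
  haveI := Fact.mk hr
  obtain ⟨⟨z, hz⟩, hzo⟩ := exists_prime_orderOf_dvd_card' (G := ↥(torusOf h)) r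
    (hn ▸ Dvd.dvd.mul_left (Nat.minFac_dvd n) 2)
  rw [Subgroup.orderOf_mk] at hzo
  obtain ⟨k, hk, rfl⟩ := hz
  have hkh : k * h = h * k := Subgroup.mem_centralizer_singleton_iff.1 hk
  have hzh : Commute (pr k) (pr h) := (show Commute k h from hkh).map pr
  have hr3 : r ≠ 2 := fun e => by rw [e] at hrodd; exact absurd hrodd (by decide)
  refine ⟨pr k, r, hr, hrodd, hzo, hzh, ?_, fun y hy ho => ?_, fun x hx => ?_⟩
  · obtain ⟨α, β, hab⟩ := exists_span hh1 hkh
    have h1 : ((g * k * g⁻¹ * k : G2) : M2) =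
        (α * α - β * β * (-(h : M2).det)) • (1 : M2) := by
      have e1 : (g : M2) * (h : M2) * ((g⁻¹ : G2) : M2) = -(h : M2) := by
        rw [← Units.val_mul, hanti, neg_mul, ← Units.val_mul, mul_inv_cancel_right]
      rw [Units.val_mul, Units.val_mul, Units.val_mul, hab]
      simp only [mul_add, add_mul, mul_smul_comm, smul_mul_assoc, mul_one, one_mul, smul_add,
        Units.mul_inv, e1, smul_neg, neg_mul, (sq_scalar hh hh1).1]
      module
    have h2' : pr (g * k * g⁻¹ * k) = 1 := pr_eq_one.2 ⟨_, h1⟩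
    simp only [map_mul, map_inv] at h2'
    exact eq_inv_of_mul_eq_one_left h2'
  · have hd := orderOf_dvd_natCard (⟨y, mem_torusOf_of_odd h2 hy (ho ▸ hrodd)⟩ : torusOf g)
    rw [Subgroup.orderOf_mk, ho] at hd
    have hd' : r ∣ Nat.card (torusOf h) := hn ▸ Dvd.dvd.mul_left (Nat.minFac_dvd n) 2
    have h2r : r ∣ 2 := by
      rcases hcases with ⟨e1, e2, -⟩ | ⟨e1, e2, -⟩ <;> rw [e1] at hd <;> rw [e2] at hd'
      · have := Nat.dvd_sub hd' hd
        rwa [show Fintype.card F + 1 - (Fintype.card F - 1) = 2 by omega] at this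
      · have := Nat.dvd_sub hd hd'
        rwa [show Fintype.card F + 1 - (Fintype.card F - 1) = 2 by omega] at this
    exact hr3 ((Nat.prime_dvd_prime_iff_eq hr Nat.prime_two).1 h2r)
  · obtain ⟨w, rfl⟩ := Matrix.ProjGenLinGroup.mk_surjective x
    have hk1 : pr k ≠ 1 := fun e => by rw [e, orderOf_one] at hzo; exact hr.one_lt.ne hzo
    obtain ⟨α, β, hab⟩ := exists_span hh1 hkh
    have hwk : w * k = k * w := by
      rcases sign_of_commute hx with e | e
      · exact e
      exfalso
      have htk : (k : M2).trace = 0 := by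
        have e1 : (w : M2) * (k : M2) * ((w⁻¹ : G2) : M2) = -(k : M2) := by
          rw [← Units.val_mul, e, neg_mul, ← Units.val_mul, mul_inv_cancel_right]
        have e2 := congrArg Matrix.trace e1
        rw [Matrix.trace_units_conj, Matrix.trace_neg] at e2
        exact (mul_eq_zero.1 (show (2 : F) * (k : M2).trace = 0 by linear_combination e2)).resolve_left h2
      rw [hab, Linear.trace_smul_add_smul, (sq_scalar hh hh1).2, mul_zero, add_zero] at htk
      rw [(mul_eq_zero.1 htk).resolve_left h2, zero_smul, zero_add] at hab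
      have h3' : pr (k * h⁻¹) = 1 := pr_eq_one.2 ⟨β, by
        rw [Units.val_mul, hab, smul_mul_assoc, ← Units.val_mul, mul_inv_cancel, Units.val_one]⟩
      rw [map_mul, map_inv, mul_inv_eq_one] at h3'
      have : r ∣ 2 := by
        rw [← hzo, h3']
        exact orderOf_dvd_of_pow_eq_one (by rw [pow_two, hh])
      exact hr3 ((Nat.prime_dvd_prime_iff_eq hr Nat.prime_two).1 this)
    obtain ⟨γ, ε, hw⟩ := exists_span hk1 hwk
    refine (show Commute w h from Units.ext ?_).map pr
    have hkh' := congrArg Units.val hkh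
    rw [Units.val_mul, Units.val_mul] at hkh'
    rw [Units.val_mul, Units.val_mul, hw]
    simp only [add_mul, mul_add, smul_mul_assoc, mul_smul_comm, one_mul, mul_one, hkh']

/-! ### The subgroup of square determinant -/

/-- The classes with square determinant. -/
noncomputable def sqDet (F : Type) [Field F] : Subgroup (Matrix.ProjGenLinGroup (Fin 2) F) :=
  ((powMonoidHom 2 : Fˣ →* Fˣ).range.comap GeneralLinearGroup.det).map Matrix.ProjGenLinGroup.mk

theorem mem_sqDet {g : G2} : pr g ∈ sqDet F ↔ IsSquare (g : M2).det := by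
  rw [← GeneralLinearGroup.val_det_apply]
  constructor
  · rintro ⟨g', ⟨c, hc⟩, he⟩
    obtain ⟨a, ha⟩ := pr_eq_one.1 (show pr (g * g'⁻¹) = 1 by
      rw [map_mul, map_inv]; exact mul_inv_eq_one.2 he.symm)
    have hg : (g : M2) = a • (g' : M2) := by
      rw [← inv_mul_cancel_right g g', Units.val_mul, ha, smul_mul_assoc, one_mul]
    refine ⟨a * (c : F), ?_⟩
    rw [GeneralLinearGroup.val_det_apply, hg, Matrix.det_smul, Fintype.card_fin,
      ← GeneralLinearGroup.val_det_apply, ← hc, powMonoidHom_apply, Units.val_pow_eq_pow_val]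
    ring
  · intro hs
    obtain ⟨c, hc⟩ := H5.EvenCyclic.exists_sq_iff.1 hs
    exact ⟨g, ⟨c, by rw [powMonoidHom_apply, pow_two, hc]⟩, rfl⟩

theorem index_sqDet (hodd : Odd (Fintype.card F)) : (sqDet F).index = 2 := by
  have h2 : ringChar F ≠ 2 := H5.EvenCyclic.two_ne_zero_of_odd hodd
  obtain ⟨ν, hν⟩ := FiniteField.exists_nonsquare h2
  have hν0 : ν ≠ 0 := fun e => hν (e ▸ ⟨0, by simp⟩)
  set d : G2 := H5.EvenCyclic.dgl F (Units.mk0 ν hν0)
  have hd : (d : M2).det = ν := by
    rw [← GeneralLinearGroup.val_det_apply, H5.EvenCyclic.det_dgl]; rfl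
  refine Subgroup.index_eq_two_iff.2 ⟨pr d, fun y => ?_⟩
  obtain ⟨g, rfl⟩ := Matrix.ProjGenLinGroup.mk_surjective y
  rw [← map_mul, mem_sqDet, mem_sqDet, Units.val_mul, Matrix.det_mul, hd]
  by_cases hs : IsSquare (g : M2).det
  · refine Or.inr ⟨hs, fun h => hν ?_⟩
    have hne : (g : M2).det ≠ 0 := by
      rw [← GeneralLinearGroup.val_det_apply]; exact (GeneralLinearGroup.det g).ne_zero
    simpa [hne] using hs.inv.mul h
  · refine Or.inl ⟨?_, hs⟩
    obtain ⟨c, hc⟩ := H5.EvenCyclic.exists_sq_of_not_sq hodd (a := GeneralLinearGroup.det g)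
      (b := Units.mk0 ν hν0) hs hν
    exact ⟨c, by simpa using congrArg Units.val hc⟩

theorem nonempty_sqDet_equiv :
    Nonempty (sqDet F ≃* Matrix.ProjectiveSpecialLinearGroup (Fin 2) F) := by
  set f : Matrix.SpecialLinearGroup (Fin 2) F →* P2 := pr.comp Matrix.SpecialLinearGroup.toGL with hf
  have hrange : f.range = sqDet F := by
    ext y
    obtain ⟨g, rfl⟩ := Matrix.ProjGenLinGroup.mk_surjective y
    constructor
    · rintro ⟨x, hx⟩
      rw [← hx, hf, MonoidHom.comp_apply, mem_sqDet]
      exact ⟨1, by rw [mul_one]; exact x.2⟩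
    · intro hs
      obtain ⟨c, hc⟩ := mem_sqDet.1 hs
      have hne : c ≠ 0 := by
        rintro rfl
        have := (GeneralLinearGroup.det g).ne_zero
        rw [GeneralLinearGroup.val_det_apply, hc, mul_zero] at this
        exact this rfl
      have hd : (c⁻¹ • (g : M2)).det = 1 := by
        rw [Matrix.det_smul, Fintype.card_fin, hc, pow_two, mul_mul_mul_comm, inv_mul_cancel₀ hne,
          one_mul]
      refine ⟨(⟨c⁻¹ • (g : M2), hd⟩ : Matrix.SpecialLinearGroup (Fin 2) F), ?_⟩
      refine mul_inv_eq_one.1 ?_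
      show pr (Matrix.SpecialLinearGroup.toGL
        (⟨c⁻¹ • (g : M2), hd⟩ : Matrix.SpecialLinearGroup (Fin 2) F)) * (pr g)⁻¹ = 1
      rw [← map_inv, ← map_mul]
      refine pr_eq_one.2 ⟨c⁻¹, ?_⟩
      rw [Units.val_mul]
      show (c⁻¹ • (g : M2)) * ((g⁻¹ : G2) : M2) = _
      rw [smul_mul_assoc, Units.mul_inv]
  have hker : f.ker = Subgroup.center (Matrix.SpecialLinearGroup (Fin 2) F) := by
    ext x
    rw [MonoidHom.mem_ker, hf, MonoidHom.comp_apply, pr_eq_one, H67.mem_center_SL_two]
    constructor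
    · rintro ⟨c, hc⟩
      have hd : (x : M2).det = 1 := x.2
      have hc' : (x : M2) = c • 1 := hc
      rw [hc', Matrix.det_smul, Fintype.card_fin, Matrix.det_one, mul_one, pow_two,
        mul_self_eq_one_iff] at hd
      rcases hd with rfl | rfl
      · exact Or.inl (by rw [hc', one_smul])
      · exact Or.inr (by rw [hc', neg_one_smul])
    · rintro (h | h)
      · exact ⟨1, by rw [one_smul]; exact h⟩
      · exact ⟨-1, by rw [neg_one_smul]; exact h⟩
  exact ⟨(MulEquiv.subgroupCongr hrange).symm.trans <| (QuotientGroup.quotientKerEquivRange f).symm.trans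
    (QuotientGroup.quotientMulEquivOfEq hker)⟩

/-- The only copy of `PSL` in `PGL`. -/
theorem eq_sqDet (hodd : Odd (Fintype.card F)) (h3 : 3 < Fintype.card F) (K : Subgroup P2)
    (e : K ≃* Matrix.ProjectiveSpecialLinearGroup (Fin 2) F) : K = sqDet F := by
  haveI : Finite P2 := Finite.of_surjective _ Matrix.ProjGenLinGroup.mk_surjective
  haveI hN : (sqDet F).Normal := Subgroup.normal_of_index_eq_two (index_sqDet hodd)
  haveI : IsSimpleGroup (Matrix.ProjectiveSpecialLinearGroup (Fin 2) F) :=
    Matrix.ProjectiveSpecialLinearGroup.rank_two_simple (by rw [Nat.card_eq_fintype_card]; omega)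
  have hK : IsSimpleGroup ↥K := e.isSimpleGroup_congr.2 inferInstance
  refine Subgroup.eq_of_le_of_card_ge ?_ ?_
  · rcases hK.eq_bot_or_eq_top_of_normal ((sqDet F).subgroupOf K) inferInstance with h | h
    · exfalso
      let f : ↥K →* P2 ⧸ sqDet F := (QuotientGroup.mk' (sqDet F)).comp K.subtype
      have hfi : Function.Injective f := by
        rw [← MonoidHom.ker_eq_bot_iff, ← MonoidHom.comap_ker, QuotientGroup.ker_mk']
        exact h
      have hd := Subgroup.card_dvd_of_injective f hfi
      rw [← Subgroup.index_eq_card, index_sqDet hodd, Nat.card_congr e.toEquiv] at hd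
      have h1 := (orderOf_dvd_natCard (H56.toP (H5.EvenCyclic.um F))).trans hd
      rcases (Nat.dvd_prime Nat.prime_two).1 h1 with h2 | h2
      · exact H5.EvenCyclic.toP_um_ne_one (orderOf_eq_one_iff.1 h2)
      · have := H5.EvenCyclic.toP_um_odd (F := F) hodd
        rw [h2] at this
        exact absurd this (by decide)
    · exact Subgroup.subgroupOf_eq_top.1 h
  · rw [Nat.card_congr e.toEquiv, Nat.card_congr nonempty_sqDet_equiv.some.toEquiv]

end Cfsg.Agent.H10.GW
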