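import Cfsg.Agent.H82.GW.Setting
import Cfsg.Agent.H4.GW.AutShape
import Cfsg.Agent.H4.GW.Reduction
import Cfsg.Agent.H36.GW.Exit
import Cfsg.Agent.H36.GW.Layer
import Cfsg.Agent.Cores.DihedralLocal
import Cfsg.Agent.H10.GW.Torus
import Cfsg.Agent.Cores.PCore
import Mathlib.GroupTheory.FixedPointFree

/-!
# Gorenstein–Walter, the last step: the shape of a two-class overgroup with `D' = 1`

Here `W = O(M)` is abelian and every element of `M` centralises or inverts it; `M / W` is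
`PGL(2,q)` with `q ≥ 5`, or the symmetric group of degree four.
-/

set_option autoImplicit false
set_option linter.unusedSectionVars false
set_option linter.style.haveILetI false

namespace Cfsg.Agent.H10.GW

open Subgroup Cfsg.Agent Cfsg.Agent.GW

universe u

variable {G : Type u} [Group G] [Finite G]

/-- The inductive hypothesis on smaller groups. -/
def SmallHyp (G : Type u) [Group G] : Prop :=
  ∀ (Z : Type u) [Group Z] [Finite Z], Nat.card Z < Nat.card G → H63.GW.SylowDType Z →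
    H63.GW.PerfectHyp Z

theorem eq_one_of_odd_sq {X : Type*} [Group X] [Finite X] {x : X} (h : x * x = 1)
    (ho : Odd (orderOf x)) : x = 1 := by
  have h2 : orderOf x ∣ 2 := orderOf_dvd_of_pow_eq_one (by rw [pow_two, h])
  rcases (Nat.dvd_prime Nat.prime_two).1 h2 with e | e
  · exact orderOf_eq_one_iff.1 e
  · rw [e] at ho; exact absurd ho (by decide)

theorem odd_orderOf_of_mem {X : Type*} [Group X] [Finite X] {H : Subgroup X}
    (h : Odd (Nat.card H)) {x : X} (hx : x ∈ H) : Odd (orderOf x) := by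
  rw [← Subgroup.orderOf_mk x hx]
  exact h.of_dvd_nat (orderOf_dvd_natCard _)

theorem eq_one_of_mem_odd {X : Type*} [Group X] [Finite X] {H : Subgroup X}
    (h : Odd (Nat.card H)) {x : X} (hx : x ∈ H) (h2 : x * x = 1) : x = 1 :=
  eq_one_of_odd_sq h2 (odd_orderOf_of_mem h hx)

variable {S : Sylow 2 G} {l : ℕ} {c s : G} {M : Subgroup G}

/-- The situation of the last step. -/
structure AltData (S : Sylow 2 G) (l : ℕ) (c s : G) (M : Subgroup G) : Prop where
  cfg : Cfg S l c s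
  two : TwoClass M l c s
  one : pairCore (c ^ l) (c * s) = ⊥

namespace AltData

variable (h : AltData S l c s M)
include h

theorem t_order : orderOf (c ^ l) = 2 := h.cfg.gen.z_order

theorem t_sq : c ^ l * c ^ l = 1 := by
  rw [← pow_two, ← h.t_order, pow_orderOf_eq_one]

theorem u_order : orderOf (c * s) = 2 := by simpa using h.cfg.gen.orderOf_out 1

theorem u_sq : c * s * (c * s) = 1 := by simpa using h.cfg.gen.out_mul_self 1

theorem u_mem_sylow : c * s ∈ (S : Subgroup G) := mul_mem h.cfg.gen.mem_c h.cfg.gen.mem_s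

theorem sylow_le_cent : (S : Subgroup G) ≤ centralizer ({c ^ l} : Set G) :=
  H36.GW.sylow_le_centralizer h.cfg.gen

theorem sylow_le : (S : Subgroup G) ≤ M := h.sylow_le_cent.trans h.two.contains

theorem t_mem : c ^ l ∈ M := h.sylow_le h.cfg.gen.z_mem

theorem s_mem : s ∈ M := h.sylow_le h.cfg.gen.mem_s

theorem u_mem : c * s ∈ M := h.sylow_le h.u_mem_sylow

theorem commute_t {g : G} (hg : g ∈ (S : Subgroup G)) : Commute g (c ^ l) := h.cfg.gen.z_central hg

theorem odd_coreAt : Odd (Nat.card (coreAt (c ^ l))) := H36.GW.odd_card_coreC (c ^ l)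

theorem coreAt_le : coreAt (c ^ l) ≤ centralizer ({c ^ l} : Set G) := H36.GW.coreC_le (c ^ l)

/-- `cs` inverts `O(C(t))`, which is abelian. -/
theorem inverts_core : (∀ x ∈ coreAt (c ^ l), c * s * x * (c * s)⁻¹ = x⁻¹) ∧
    ∀ x ∈ coreAt (c ^ l), ∀ y ∈ coreAt (c ^ l), Commute x y := by
  have huC : c * s ∈ centralizer ({c ^ l} : Set G) := h.sylow_le_cent h.u_mem_sylow
  let φ : ↥(coreAt (c ^ l)) →* ↥(coreAt (c ^ l)) :=
    MonoidHom.mk' (fun x => ⟨c * s * x * (c * s)⁻¹, H36.GW.conj_mem_coreC huC x.2⟩)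
      fun x y => Subtype.ext (by simp only [Subgroup.coe_mul]; group)
  have hfpf : MonoidHom.FixedPointFree φ := fun x hx => by
    have hx' : c * s * (x : G) * (c * s)⁻¹ = x := congrArg Subtype.val hx
    have hmem : (x : G) ∈ pairCore (c ^ l) (c * s) :=
      ⟨x.2, mem_centralizer_singleton_iff.2 (mul_inv_eq_iff_eq_mul.1 hx').symm⟩
    rw [h.one, mem_bot] at hmem
    exact Subtype.ext hmem
  have hinv : Function.Involutive φ := fun x => Subtype.ext (by
    show c * s * (c * s * (x : G) * (c * s)⁻¹) * (c * s)⁻¹ = x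
    rw [show c * s * (c * s * (x : G) * (c * s)⁻¹) * (c * s)⁻¹ =
      (c * s * (c * s)) * x * (c * s * (c * s))⁻¹ by group, h.u_sq]
    group)
  refine ⟨fun x hx => ?_, fun x hx y hy => ?_⟩
  · have := congrFun (hfpf.coe_eq_inv_of_involutive hinv) ⟨x, hx⟩
    exact congrArg Subtype.val this
  · exact congrArg Subtype.val (hfpf.commute_all_of_involutive hinv ⟨x, hx⟩ ⟨y, hy⟩).eq

theorem mem_W {w : G} : w ∈ coreIn M ↔ ∃ hw : w ∈ M, (⟨w, hw⟩ : M) ∈ Cfsg.oddCore M := by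
  constructor
  · rintro ⟨x, hx, rfl⟩; exact ⟨x.2, hx⟩
  · rintro ⟨hw, hx⟩; exact ⟨⟨w, hw⟩, hx, rfl⟩

theorem W_le : coreIn M ≤ M := map_subtype_le _

theorem W_le_pair : coreIn M ≤ pairCore (c ^ l) s := h.two.core_fixed

theorem W_le_core : coreIn M ≤ coreAt (c ^ l) := h.W_le_pair.trans inf_le_left

theorem odd_W : Odd (Nat.card (coreIn M)) := by
  rw [coreIn, Subgroup.card_subtype]
  exact Cores.odd_card_oddCore

theorem conj_W {m w : G} (hm : m ∈ M) (hw : w ∈ coreIn M) : m * w * m⁻¹ ∈ coreIn M := by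
  obtain ⟨hw', hx⟩ := h.mem_W.1 hw
  exact h.mem_W.2 ⟨mul_mem (mul_mem hm hw') (inv_mem hm),
    Normal.conj_mem inferInstance _ hx (⟨m, hm⟩ : M)⟩

theorem W_comm {w v : G} (hw : w ∈ coreIn M) (hv : v ∈ coreIn M) : Commute w v :=
  h.inverts_core.2 w (h.W_le_core hw) v (h.W_le_core hv)

theorem t_commute_W {w : G} (hw : w ∈ coreIn M) : Commute (c ^ l) w :=
  (mem_centralizer_singleton_iff.1 (h.coreAt_le (h.W_le_core hw))).symm

theorem s_commute_W {w : G} (hw : w ∈ coreIn M) : Commute s w :=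
  (mem_centralizer_singleton_iff.1 (h.W_le_pair hw).2).symm

theorem u_inverts_W {w : G} (hw : w ∈ coreIn M) : c * s * w * (c * s)⁻¹ = w⁻¹ :=
  h.inverts_core.1 w (h.W_le_core hw)

theorem W_eq_one {w : G} (hw : w ∈ coreIn M) (h2 : w * w = 1) : w = 1 :=
  eq_one_of_mem_odd h.odd_W hw h2

/-- An involution of `M` centralising `W` is determined by its image. -/
theorem lift_unique {a b : M} (ha : a * a = 1) (hb : b * b = 1)
    (hab : (a : M ⧸ Cfsg.oddCore M) = b) (hc : ∀ w ∈ coreIn M, Commute (b : G) w) : a = b := by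
  have hw : b⁻¹ * a ∈ Cfsg.oddCore M := QuotientGroup.eq.1 hab.symm
  have hb' : b⁻¹ = b := inv_eq_of_mul_eq_one_right hb
  rw [hb'] at hw
  have hwW : ((b * a : M) : G) ∈ coreIn M := ⟨_, hw, rfl⟩
  have hcb : Commute b (b * a) := Subtype.ext (hc _ hwW)
  have h1 : b * a = a * b := by
    have e := hcb.eq
    rw [← mul_assoc, hb, one_mul] at e
    calc b * a = b * (b * a * b) := by rw [← e]
      _ = a * b := by rw [← mul_assoc, ← mul_assoc, hb, one_mul]
  have h2 : (b * a) * (b * a) = 1 := by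
    rw [mul_assoc, ← mul_assoc a b a, ← h1, mul_assoc b a a, ha, mul_one, hb]
  have h3 : b * a = 1 := Subtype.ext (h.W_eq_one hwW (congrArg Subtype.val h2))
  calc a = b * (b * a) := by rw [← mul_assoc, hb, one_mul]
    _ = b := by rw [h3, mul_one]

theorem sylowDType : H63.GW.SylowDType G := H36.GW.sylowDType_of_dGen h.cfg.gen

theorem t_ne_s : c ^ l ≠ s := fun e =>
  h.cfg.gen.out (e ▸ pow_mem (mem_zpowers c) l)

theorem exists_two_pow : ∃ k : ℕ, l = 2 ^ k ∧ 1 ≤ k := by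
  haveI : Fact (Nat.Prime 2) := ⟨Nat.prime_two⟩
  obtain ⟨k, hk⟩ := IsPGroup.iff_card.1 S.isPGroup'
  have hd : 2 * l ∣ 2 ^ k := by
    rw [← hk, ← h.cfg.gen.oc, ← Subgroup.orderOf_mk c h.cfg.gen.mem_c]
    exact orderOf_dvd_natCard _
  obtain ⟨j, -, hj⟩ := (Nat.dvd_prime_pow Nat.prime_two).1 hd
  have h2 := h.two.two_le
  rcases j with _ | j
  · omega
  refine ⟨j, by rw [pow_succ'] at hj; omega, ?_⟩
  rcases j with _ | j
  · simp at hj; omega
  · omega

theorem card_sylow : Nat.card (S : Subgroup G) = 4 * l :=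
  Cores.card_dihedral h.cfg.gen h.two.two_le

/-- The Sylow 2-subgroup of `M`. -/
noncomputable def sylowM : Sylow 2 M := S.subtype h.sylow_le

theorem coe_sylowM : (h.sylowM : Subgroup M) = (S : Subgroup G).subgroupOf M := Sylow.coe_subtype _ _

theorem mem_sylowM {g : M} : g ∈ (h.sylowM : Subgroup M) ↔ (g : G) ∈ (S : Subgroup G) := by
  rw [h.coe_sylowM, mem_subgroupOf]

theorem dGen_M : H39.DGen (h.sylowM : Subgroup M) l ⟨c, h.sylow_le h.cfg.gen.mem_c⟩ ⟨s, h.s_mem⟩ := by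
  have hz : ∀ x : M, x ∈ zpowers (⟨c, h.sylow_le h.cfg.gen.mem_c⟩ : M) ↔ (x : G) ∈ zpowers c := by
    intro x
    simp only [Subgroup.mem_zpowers_iff]
    exact exists_congr fun i => ⟨fun e => congrArg Subtype.val e, fun e => Subtype.ext e⟩
  exact
    { lpos := h.cfg.gen.lpos
      mem_c := h.mem_sylowM.2 h.cfg.gen.mem_c
      mem_s := h.mem_sylowM.2 h.cfg.gen.mem_s
      oc := by rw [← Subgroup.orderOf_coe]; exact h.cfg.gen.oc
      os := by rw [← Subgroup.orderOf_coe]; exact h.cfg.gen.os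
      inv := Subtype.ext h.cfg.gen.inv
      out := fun h1 => h.cfg.gen.out ((hz _).1 h1)
      cases := fun g hg => by
        rw [hz, hz]
        exact h.cfg.gen.cases g (h.mem_sylowM.1 hg) }

theorem exists_index_two : ∃ H : Subgroup M, H.index = 2 := by
  by_contra hno
  push Not at hno
  obtain ⟨x, hx⟩ := isConj_iff.1 (h.dGen_M.isConj_z_of_no_index_two hno
    (v := (⟨c * s, h.u_mem⟩ : M)) (by rw [← Subgroup.orderOf_coe]; exact h.u_order))
  have hxG : (x : G) * c ^ l * (x : G)⁻¹ = c * s := by simpa using congrArg Subtype.val hx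
  refine (h.two.separates (x : G)⁻¹ (inv_mem x.2)).1 ?_
  rw [← hxG]; group

omit h in
theorem mem_of_odd_index_two {X : Type*} [Group X] [Finite X] {K : Subgroup X} (hK : K.index = 2)
    {x : X} (hx : Odd (orderOf x)) : x ∈ K := by
  by_contra hxK
  obtain ⟨n, hn⟩ := hx
  have hsq : x * x ∈ K := mul_self_mem_of_index_two hK x
  refine hxK ?_
  have hp : (x * x) ^ (n + 1) = x := by
    rw [← pow_two, ← pow_mul, show 2 * (n + 1) = orderOf x + 1 by omega, pow_succ, pow_orderOf_eq_one,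
      one_mul]
  exact hp ▸ pow_mem hsq _

/-- Elements in the two cosets of a subgroup of index two of `M / W`. -/
theorem index_two_facts {K : Subgroup (M ⧸ Cfsg.oddCore M)} (hK : K.index = 2) :
    ((⟨c ^ l, h.t_mem⟩ : M) : M ⧸ Cfsg.oddCore M) ∈ K ∧
    ((⟨s, h.s_mem⟩ : M) : M ⧸ Cfsg.oddCore M) ∈ K ∧
    ((⟨c * s, h.u_mem⟩ : M) : M ⧸ Cfsg.oddCore M) ∉ K := by
  haveI := normal_of_index_eq_two hK
  set π : M →* M ⧸ Cfsg.oddCore M := QuotientGroup.mk' _
  set cM : M := ⟨c, h.sylow_le h.cfg.gen.mem_c⟩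
  obtain ⟨k, hk, hk1⟩ := h.exists_two_pow
  have ht : π ⟨c ^ l, h.t_mem⟩ ∈ K := by
    have e : (⟨c ^ l, h.t_mem⟩ : M) = cM ^ (2 ^ (k - 1)) * cM ^ (2 ^ (k - 1)) := by
      apply Subtype.ext
      rw [← pow_add, ← two_mul, ← pow_succ', Nat.sub_add_cancel hk1, Subgroup.coe_pow]
      show c ^ l = c ^ 2 ^ k
      exact congrArg (c ^ ·) hk
    rw [e, map_mul]
    exact mul_self_mem_of_index_two hK _
  obtain ⟨g, hg, hf, -⟩ := h.two.fused
  have hs : π ⟨s, h.s_mem⟩ ∈ K := by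
    have e : (⟨s, h.s_mem⟩ : M) = ⟨g, hg⟩ * ⟨c ^ l, h.t_mem⟩ * ⟨g, hg⟩⁻¹ := Subtype.ext hf.1.symm
    rw [e, map_mul, map_mul, map_inv]
    exact Normal.conj_mem inferInstance _ ht _
  refine ⟨ht, hs, fun hu => ?_⟩
  have hc : π cM ∈ K := by
    have e : cM = (⟨c * s, h.u_mem⟩ : M) * (⟨s, h.s_mem⟩ : M)⁻¹ := Subtype.ext (by simp [cM])
    rw [e, map_mul, map_inv]
    exact mul_mem hu (inv_mem hs)
  have hle : (h.sylowM : Subgroup M) ≤ K.comap π := by
    intro x hx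
    rcases h.dGen_M.cases x hx with h1 | h1
    · exact zpowers_le.2 (show cM ∈ K.comap π from hc) h1
    · exact (Subgroup.mul_mem_cancel_right _ (show (⟨s, h.s_mem⟩ : M) ∈ K.comap π from hs)).1
        (zpowers_le.2 (show cM ∈ K.comap π from hc) h1)
  have hi : (K.comap π).index = 2 := by
    rw [K.index_comap_of_surjective (QuotientGroup.mk'_surjective _), hK]
  haveI : Fact (Nat.Prime 2) := ⟨Nat.prime_two⟩
  have hd := Subgroup.index_dvd_of_le hle
  rw [hi] at hd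
  exact h.sylowM.not_dvd_index hd

/-- Every element of `M` centralises or inverts `W`, given a subgroup of index two of `M / W`
all whose elements lift to the centraliser of `W`. -/
theorem pm_of_index_two {K : Subgroup (M ⧸ Cfsg.oddCore M)} (hK : K.index = 2)
    (hKN : ∀ y ∈ K, ∃ m : M, (m : M ⧸ Cfsg.oddCore M) = y ∧ ∀ w ∈ coreIn M, Commute (m : G) w)
    {m : G} (hm : m ∈ M) :
    (∀ w ∈ coreIn M, Commute m w) ∨ ∀ w ∈ coreIn M, m * w * m⁻¹ = w⁻¹ := by
  have key : ∀ m : M, (m : M ⧸ Cfsg.oddCore M) ∈ K → ∀ w ∈ coreIn M, Commute (m : G) w := by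
    intro m hm w hw
    obtain ⟨m', he, hc⟩ := hKN _ hm
    have hv : ((m'⁻¹ * m : M) : G) ∈ coreIn M := ⟨_, QuotientGroup.eq.1 he, rfl⟩
    have h1 := (hc w hw).mul_left (h.W_comm hv hw)
    rwa [show (m' : G) * ((m'⁻¹ * m : M) : G) = (m : G) by simp] at h1
  by_cases hmK : ((⟨m, hm⟩ : M) : M ⧸ Cfsg.oddCore M) ∈ K
  · exact Or.inl (key _ hmK)
  right
  intro w hw
  have h1 : ((⟨m, hm⟩ * ⟨c * s, h.u_mem⟩ : M) : M ⧸ Cfsg.oddCore M) ∈ K := by
    rw [QuotientGroup.mk_mul]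
    exact (mul_mem_iff_of_index_two hK).2 (iff_of_false hmK (h.index_two_facts hK).2.2)
  have h2 : Commute (m * (c * s)) w⁻¹ := key _ h1 _ (inv_mem hw)
  have h3 : c * s * w⁻¹ * (c * s)⁻¹ = w := by rw [h.u_inverts_W (inv_mem hw), inv_inv]
  calc m * w * m⁻¹ = m * (c * s) * w⁻¹ * (m * (c * s))⁻¹ := by nth_rewrite 1 [← h3]; group
    _ = w⁻¹ := by rw [h2.eq, mul_inv_cancel_right]

/-- The centraliser of `W` in `M / W`. -/
noncomputable def kerBar (_h : AltData S l c s M) : Subgroup (M ⧸ Cfsg.oddCore M) :=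
  ((centralizer (coreIn M : Set G)).subgroupOf M).map (QuotientGroup.mk' _)

theorem mem_kerBar {m : M} (hm : ∀ w ∈ coreIn M, Commute (m : G) w) :
    (m : M ⧸ Cfsg.oddCore M) ∈ h.kerBar :=
  ⟨m, mem_centralizer_iff.2 fun w hw => (hm w hw).eq.symm, rfl⟩

theorem normal_kerBar : h.kerBar.Normal := by
  haveI : ((centralizer (coreIn M : Set G)).subgroupOf M).Normal := ⟨fun n hn g =>
    mem_subgroupOf.2 (mem_centralizer_iff.2 fun w hw => by
      have h1 : (g : G)⁻¹ * w * (g : G) ∈ coreIn M := by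
        simpa using h.conj_W (inv_mem g.2) hw
      have h2 := mem_centralizer_iff.1 (mem_subgroupOf.1 hn) _ h1
      calc w * ((g * n * g⁻¹ : M) : G) = (g : G) * (((g : G)⁻¹ * w * g) * n) * (g : G)⁻¹ := by
            simp only [Subgroup.coe_mul, Subgroup.coe_inv]; group
        _ = (g : G) * ((n : G) * ((g : G)⁻¹ * w * g)) * (g : G)⁻¹ := by rw [h2]
        _ = _ := by simp only [Subgroup.coe_mul, Subgroup.coe_inv]; group)⟩
  exact this.map _ (QuotientGroup.mk'_surjective _)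

theorem le_kerBar_spec {K : Subgroup (M ⧸ Cfsg.oddCore M)} (hle : K ≤ h.kerBar) :
    ∀ y ∈ K, ∃ m : M, (m : M ⧸ Cfsg.oddCore M) = y ∧ ∀ w ∈ coreIn M, Commute (m : G) w := by
  intro y hy
  obtain ⟨m, hm, rfl⟩ := hle hy
  exact ⟨m, rfl, fun w hw => (mem_centralizer_iff.1 (mem_subgroupOf.1 hm) w hw).symm⟩

theorem mk_eq_one_iff {m : M} : (m : M ⧸ Cfsg.oddCore M) = 1 ↔ (m : G) ∈ coreIn M := by
  rw [QuotientGroup.eq_one_iff]
  exact ⟨fun hm => ⟨m, hm, rfl⟩, fun hm => by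
    obtain ⟨hw, hx⟩ := h.mem_W.1 hm; exact hx⟩

theorem eq_one_of_sylow {m : M} (hm : (m : G) ∈ (S : Subgroup G))
    (he : (m : M ⧸ Cfsg.oddCore M) = 1) : m = 1 := by
  obtain ⟨k, hk⟩ := S.isPGroup' ⟨(m : G), hm⟩
  have h1 : orderOf (m : G) ∣ 2 ^ k :=
    orderOf_dvd_of_pow_eq_one (congrArg Subtype.val hk)
  have h2 : orderOf (m : G) ∣ Nat.card (coreIn M) := by
    rw [← Subgroup.orderOf_mk (m : G) (h.mk_eq_one_iff.1 he)]; exact orderOf_dvd_natCard _
  exact Subtype.ext (orderOf_eq_one_iff.1 (Nat.eq_one_of_dvd_coprimes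
    (Nat.Coprime.pow_left k (Nat.coprime_two_left.2 h.odd_W)) h1 h2))

theorem four_l_dvd : 4 * l ∣ Nat.card (M ⧸ Cfsg.oddCore M) := by
  let f : ↥(S : Subgroup G) →* M ⧸ Cfsg.oddCore M :=
    (QuotientGroup.mk' _).comp (inclusion h.sylow_le)
  have hf : Function.Injective f := (injective_iff_map_eq_one _).2 fun x hx =>
    Subtype.ext (Subtype.ext_iff.1 (h.eq_one_of_sylow (m := inclusion h.sylow_le x) x.2 hx) :)
  rw [← h.card_sylow]
  exact card_dvd_of_injective f hf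

theorem not_isSimpleGroup : ¬ IsSimpleGroup (M ⧸ Cfsg.oddCore M) := by
  intro hs
  obtain ⟨H, hH⟩ := h.exists_index_two
  set π : M →* M ⧸ Cfsg.oddCore M := QuotientGroup.mk' _
  have hker : π.ker ≤ H := by
    rw [QuotientGroup.ker_mk']
    exact fun x hx => mem_of_odd_index_two hH (odd_orderOf_of_mem Cores.odd_card_oddCore hx)
  have hi : (H.map π).index = 2 := by
    rw [H.index_map, sup_eq_left.2 hker, MonoidHom.range_eq_top.2 (QuotientGroup.mk'_surjective _),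
      Subgroup.index_top, mul_one, hH]
  rcases hs.eq_bot_or_eq_top_of_normal _ (normal_of_index_eq_two hi) with e | e
  · rw [e, index_bot] at hi
    have := Nat.le_of_dvd (by norm_num) (hi ▸ h.four_l_dvd)
    have := h.two.two_le
    omega
  · rw [e, index_top] at hi
    omega

theorem central_involution {x : G} (hx : x ∈ (S : Subgroup G)) (hx2 : x * x = 1) (hx1 : x ≠ 1)
    (hc : Commute x c) : x = c ^ l := by
  by_cases hxc : x ∈ zpowers c
  · exact (h.cfg.gen.sq_one_cases hxc hx2).resolve_left hx1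
  obtain ⟨i, rfl⟩ := h.cfg.gen.out_form hx hxc
  exfalso
  have e := h.cfg.gen.out_conj i 1
  rw [zpow_one, hc.eq, mul_inv_cancel_right, zpow_neg, zpow_one] at e
  have h2 : orderOf c ∣ 2 := orderOf_dvd_of_pow_eq_one (by
    rw [pow_two]; nth_rewrite 1 [e]; exact inv_mul_cancel c)
  have := Nat.le_of_dvd (by norm_num) h2
  rw [h.cfg.gen.oc] at this
  have := h.two.two_le
  omega

/-- A normal subgroup of odd index with abelian quotient of `M / W` is everything. -/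
theorem eq_top_of_odd_index (N : Subgroup (M ⧸ Cfsg.oddCore M)) [N.Normal] (hN : Odd N.index)
    (hab : ∀ a b : (M ⧸ Cfsg.oddCore M) ⧸ N, Commute a b) : N = ⊤ := by
  haveI : Fact (Nat.Prime 2) := ⟨Nat.prime_two⟩
  set π : M →* M ⧸ Cfsg.oddCore M := QuotientGroup.mk' _
  set P : Sylow 2 (M ⧸ Cfsg.oddCore M) := h.sylowM.mapSurjective (QuotientGroup.mk'_surjective _)
  have hPc : (P : Subgroup (M ⧸ Cfsg.oddCore M)) = (h.sylowM : Subgroup M).map π := rfl
  have hP : (P : Subgroup (M ⧸ Cfsg.oddCore M)) ≤ N := by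
    intro y hy
    obtain ⟨k, hk⟩ := P.isPGroup' ⟨y, hy⟩
    refine (QuotientGroup.eq_one_iff y).1 (orderOf_eq_one_iff.1 (Nat.eq_one_of_dvd_coprimes
      (Nat.Coprime.pow_left k (Nat.coprime_two_left.2 hN)) (orderOf_dvd_of_pow_eq_one ?_) ?_))
    · rw [← QuotientGroup.mk_pow, show y ^ 2 ^ k = 1 from congrArg Subtype.val hk, QuotientGroup.mk_one]
    · rw [Subgroup.index_eq_card]; exact orderOf_dvd_natCard _
  have hsup := Sylow.normalizer_sup_eq_top (P.subtype hP)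
  rw [Sylow.coe_subtype, Subgroup.map_subgroupOf_eq_of_le hP] at hsup
  refine eq_top_iff.2 (hsup ▸ sup_le ?_ le_rfl)
  intro y hy
  obtain ⟨n, rfl⟩ : ∃ n, π n = y := QuotientGroup.mk'_surjective _ y
  have hn := mem_normalizer_iff.1 hy (π ⟨c ^ l, h.t_mem⟩)
  obtain ⟨x, hx, hxe⟩ := hn.1 (hPc ▸ mem_map_of_mem π (h.mem_sylowM.2 h.cfg.gen.z_mem))
  have hxS : (x : G) ∈ (S : Subgroup G) := h.mem_sylowM.1 hx
  have hx2 : x * x = 1 := h.eq_one_of_sylow (mul_mem hxS hxS) (by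
    show π (x * x) = 1
    rw [map_mul, hxe, ← map_inv, ← map_mul, ← map_mul, ← map_mul, ← map_one π]
    refine congrArg π (Subtype.ext ?_)
    simp only [Subgroup.coe_mul, Subgroup.coe_inv, Subgroup.coe_one]
    calc (n : G) * c ^ l * (n : G)⁻¹ * ((n : G) * c ^ l * (n : G)⁻¹)
        = (n : G) * (c ^ l * c ^ l) * (n : G)⁻¹ := by group
      _ = 1 := by rw [h.t_sq]; group)
  have hx1 : x ≠ 1 := fun e => by
    rw [e, map_one] at hxe
    have := h.eq_one_of_sylow (m := ⟨c ^ l, h.t_mem⟩) h.cfg.gen.z_mem (by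
      show π ⟨c ^ l, h.t_mem⟩ = 1
      calc π ⟨c ^ l, h.t_mem⟩ = (π n)⁻¹ * (π n * π ⟨c ^ l, h.t_mem⟩ * (π n)⁻¹) * π n := by group
        _ = 1 := by rw [← hxe]; group)
    have := congrArg Subtype.val this
    exact absurd h.t_order (by rw [show c ^ l = 1 from this, orderOf_one]; norm_num)
  have hcm : Commute (x : G) c := by
    set cM : M := ⟨c, h.sylow_le h.cfg.gen.mem_c⟩
    have hcP : π cM ∈ (P : Subgroup (M ⧸ Cfsg.oddCore M)) :=
      hPc ▸ mem_map_of_mem π (h.mem_sylowM.2 h.cfg.gen.mem_c)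
    obtain ⟨d, hd, hde⟩ := (mem_normalizer_iff.1 (inv_mem hy) _).1 hcP
    have hdS : (d : G) ∈ (S : Subgroup G) := h.mem_sylowM.1 hd
    have e1 : π (x * cM * x⁻¹ * cM⁻¹) = 1 := by
      have hc' : π cM = π n * π d * (π n)⁻¹ := by rw [hde, inv_inv]; group
      have hcom : π ⟨c ^ l, h.t_mem⟩ * π d = π d * π ⟨c ^ l, h.t_mem⟩ := by
        rw [← map_mul, ← map_mul]
        exact congrArg π (Subtype.ext (h.commute_t hdS).eq.symm)
      rw [map_mul, map_mul, map_mul, map_inv, map_inv, hxe, hc']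
      calc _ = π n * (π ⟨c ^ l, h.t_mem⟩ * π d * (π ⟨c ^ l, h.t_mem⟩)⁻¹ * (π d)⁻¹) * (π n)⁻¹ := by group
        _ = 1 := by rw [hcom]; group
    have := h.eq_one_of_sylow (m := x * cM * x⁻¹ * cM⁻¹)
      (mul_mem (mul_mem (mul_mem hxS h.cfg.gen.mem_c) (inv_mem hxS)) (inv_mem h.cfg.gen.mem_c)) e1
    exact commutatorElement_eq_one_iff_commute.1 (congrArg Subtype.val this)
  have hxt : x = ⟨c ^ l, h.t_mem⟩ := Subtype.ext (h.central_involution hxS (congrArg Subtype.val hx2)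
    (fun e => hx1 (Subtype.ext e)) hcm)
  have hnt : n * ⟨c ^ l, h.t_mem⟩ * n⁻¹ = ⟨c ^ l, h.t_mem⟩ := by
    refine h.lift_unique ?_ (Subtype.ext h.t_sq) ?_ fun w hw => h.t_commute_W hw
    · refine Subtype.ext ?_
      simp only [Subgroup.coe_mul, Subgroup.coe_inv, Subgroup.coe_one]
      calc (n : G) * c ^ l * (n : G)⁻¹ * ((n : G) * c ^ l * (n : G)⁻¹)
          = (n : G) * (c ^ l * c ^ l) * (n : G)⁻¹ := by group
        _ = 1 := by rw [h.t_sq]; group
    · show π _ = π _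
      rw [map_mul, map_mul, map_inv, ← hxe, hxt]
  have hnC : (n : G) ∈ centralizer ({c ^ l} : Set G) :=
    mem_centralizer_singleton_iff.2 (mul_inv_eq_iff_eq_mul.1 (congrArg Subtype.val hnt))
  haveI : NeZero (2 * l) := ⟨by have := h.cfg.gen.lpos; omega⟩
  have hdih : Nonempty ((S : Subgroup G) ≃* DihedralGroup (2 * l)) :=
    PGroups.nonempty_mulEquiv_dihedral (c := (⟨c, h.cfg.gen.mem_c⟩ : (S : Subgroup G)))
      (y := ⟨s, h.cfg.gen.mem_s⟩) (by rw [Subgroup.orderOf_mk, h.cfg.gen.oc])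
      (fun hm => h.cfg.gen.out (by
        obtain ⟨i, hi⟩ := mem_zpowers_iff.1 hm
        exact ⟨i, congrArg Subtype.val hi⟩))
      (Subtype.ext (by rw [pow_two]; exact H39.mul_self_of_orderOf_eq_two h.cfg.gen.os))
      (Subtype.ext h.cfg.gen.inv)
      (by rw [h.card_sylow]; ring)
  have hle := H36.GW.centralizer_le_coreC_sup h.cfg.gen (n := 2 * l)
    (by have := h.cfg.gen.lpos; omega) hdih hnC
  set M' : Subgroup G := ((N.comap π).map M.subtype) with hM'
  have hcoreM' : coreAt (c ^ l) ≤ M' := by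
    intro o ho
    have hoM : o ∈ M := h.two.contains (h.coreAt_le ho)
    refine ⟨⟨o, hoM⟩, ?_, rfl⟩
    set uM : M := ⟨c * s, h.u_mem⟩
    have e : uM * ⟨o, hoM⟩ * uM⁻¹ = (⟨o, hoM⟩ : M)⁻¹ := Subtype.ext (h.inverts_core.1 o ho)
    have huN : π uM ∈ N := hP (hPc ▸ mem_map_of_mem π (h.mem_sylowM.2 h.u_mem_sylow))
    set q : M →* (M ⧸ Cfsg.oddCore M) ⧸ N := (QuotientGroup.mk' N).comp π
    have hq : q ⟨o, hoM⟩ * q ⟨o, hoM⟩ = 1 := by
      have e' := congrArg q e
      rw [map_mul, map_mul, map_inv, map_inv, (hab (q uM) _).eq, mul_inv_cancel_right] at e'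
      nth_rewrite 1 [e']
      exact inv_mul_cancel _
    have hod : Odd (orderOf (q ⟨o, hoM⟩)) := by
      refine Odd.of_dvd_nat ?_ (orderOf_map_dvd q _)
      rw [← Subgroup.orderOf_coe]
      exact odd_orderOf_of_mem h.odd_coreAt ho
    have h1 : q ⟨o, hoM⟩ = 1 := eq_one_of_odd_sq hq hod
    exact (QuotientGroup.eq_one_iff (π ⟨o, hoM⟩)).1 h1
  have hSM' : (S : Subgroup G) ≤ M' := fun x hx =>
    ⟨⟨x, h.sylow_le hx⟩, hP (hPc ▸ mem_map_of_mem π (h.mem_sylowM.2 hx)), rfl⟩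
  obtain ⟨n', hn', hne⟩ := (sup_le hcoreM' hSM') hle
  rw [← Subtype.ext hne]
  exact hn'

theorem small_perfect (hsmall : SmallHyp G) : H63.GW.PerfectHyp (M ⧸ Cfsg.oddCore M) :=
  hsmall _ ((Subgroup.card_quotient_dvd_card _ |> Nat.le_of_dvd Nat.card_pos).trans_lt
      (H4.GW.card_lt_of_ne_top h.two.proper))
    ((h.sylowDType.subgroup M).quotient _ Cores.odd_card_oddCore)

/-- The shape of `M / W`. -/
theorem shape (hsmall : SmallHyp G) :
    (∃ (F : Type) (_ : Field F) (_ : Fintype F), Odd (Fintype.card F) ∧ 3 < Fintype.card F ∧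
        Nonempty (M ⧸ Cfsg.oddCore M ≃* Matrix.ProjGenLinGroup (Fin 2) F)) ∨
      Nonempty (M ⧸ Cfsg.oddCore M ≃* Equiv.Perm (Fin 4)) := by
  haveI : Fact (Nat.Prime 2) := ⟨Nat.prime_two⟩
  have hD : H63.GW.SylowDType (M ⧸ Cfsg.oddCore M) :=
    (h.sylowDType.subgroup M).quotient _ Cores.odd_card_oddCore
  have hO : Cfsg.oddCore (M ⧸ Cfsg.oddCore M) = ⊥ := Cores.pPrimeCore_quotient_pPrimeCore
  rcases H63.GW.shape_cases hD hO (h.small_perfect hsmall) with h2 | ⟨⟨e⟩⟩ | hp | ⟨L, hL, hsh, hC⟩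
  · exfalso
    set π : M →* M ⧸ Cfsg.oddCore M := QuotientGroup.mk' _
    obtain ⟨g, hg, hf, -⟩ := h.two.fused
    set P : Sylow 2 (M ⧸ Cfsg.oddCore M) := h.sylowM.mapSurjective (QuotientGroup.mk'_surjective _)
    have htop : (P : Subgroup (M ⧸ Cfsg.oddCore M)) = ⊤ :=
      (P.is_maximal' (h2.to_subgroup ⊤) le_top).symm
    obtain ⟨x, hx, hxe⟩ : π ⟨g, hg⟩ ∈ (h.sylowM : Subgroup M).map π :=
      (show π ⟨g, hg⟩ ∈ (P : Subgroup (M ⧸ Cfsg.oddCore M)) from htop ▸ mem_top _)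
    have hxt : Commute (x : G) (c ^ l) := h.commute_t (h.mem_sylowM.1 hx)
    have h1 : π ⟨s, h.s_mem⟩ = π ⟨c ^ l, h.t_mem⟩ := by
      rw [show (⟨s, h.s_mem⟩ : M) = ⟨g, hg⟩ * ⟨c ^ l, h.t_mem⟩ * ⟨g, hg⟩⁻¹ from Subtype.ext hf.1.symm,
        map_mul, map_mul, map_inv, ← hxe, ← map_inv, ← map_mul, ← map_mul]
      exact congrArg π (Subtype.ext (mul_inv_eq_iff_eq_mul.2 hxt.eq))
    refine h.t_ne_s (congrArg Subtype.val (h.lift_unique (Subtype.ext ?_) (Subtype.ext h.t_sq) h1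
      fun w hw => h.t_commute_W hw)).symm
    show s * s = 1
    rw [← pow_two, ← h.cfg.gen.os, pow_orderOf_eq_one]
  · exfalso
    have hd := h.four_l_dvd
    rw [Nat.card_congr e.toEquiv, nat_card_alternatingGroup, Nat.card_fin] at hd
    obtain ⟨k, hk, hk1⟩ := h.exists_two_pow
    have h8 : 8 ∣ 4 * l := ⟨2 ^ (k - 1), by
      rw [hk, show 8 * 2 ^ (k - 1) = 4 * (2 ^ (k - 1) * 2) by ring, ← pow_succ, Nat.sub_add_cancel hk1]⟩
    exact absurd (h8.trans hd) (by decide)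
  · exact Or.inr hp
  · haveI := hL
    rcases hsh with ⟨F, iF, iT, hodd, h3, ⟨e⟩⟩ | ⟨⟨e⟩⟩
    · obtain ⟨N, hN, hKN, hNo, hNc, -, hcase⟩ := H4.GW.psl_shape hD hodd hC e
      haveI := hN
      haveI := hNc
      have hNtop : N = ⊤ := h.eq_top_of_odd_index N hNo fun a b => by
        letI := hNc.commGroup
        exact mul_comm a b
      rcases hcase with rfl | ⟨⟨f⟩⟩
      · exact absurd ((MulEquiv.subgroupCongr hNtop).trans Subgroup.topEquiv |>.isSimpleGroup_congr.1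
          (H63.GW.SimpleShape.isSimpleGroup (L := ↥N) (Or.inl ⟨F, iF, iT, hodd, h3, ⟨e⟩⟩)))
          h.not_isSimpleGroup
      · exact Or.inl ⟨F, iF, iT, hodd, h3,
          ⟨(Subgroup.topEquiv.symm.trans (MulEquiv.subgroupCongr hNtop.symm)).trans f⟩⟩
    · have htop := H4.GW.alt_shape hD hC e
      exact absurd ((MulEquiv.subgroupCongr htop).trans Subgroup.topEquiv |>.isSimpleGroup_congr.1
        (H63.GW.SimpleShape.isSimpleGroup (L := ↥L) (Or.inr ⟨e⟩))) h.not_isSimpleGroup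

end AltData

end Cfsg.Agent.H10.GW
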