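import Mathlib

/-!
# Facts about the symmetric group of degree four
-/

set_option autoImplicit false

namespace Cfsg.Agent.H10.GW.SymFour

open Equiv Equiv.Perm

local notation "S4" => Equiv.Perm (Fin 4)

theorem card_perm : Nat.card S4 = 24 := by rw [Nat.card_perm, Nat.card_fin]; rfl

theorem odd_fix : ∀ a : S4, (a * a = 1 ∧ a ≠ 1) → ∀ y : S4, (y * y * y = 1 ∧ y * a = a * y) → y = 1 := by
  decide +kernel

theorem inner_conj : ∀ a : S4, (a * a = 1 ∧ a ≠ 1 ∧ sign a = 1) →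
    ∀ b : S4, (b * b = 1 ∧ b ≠ 1 ∧ sign b = 1) → ∃ x : S4, x * a * x⁻¹ = b := by
  decide +kernel

theorem card_cent_inner : ∀ a : S4, (a * a = 1 ∧ a ≠ 1 ∧ sign a = 1) →
    (Finset.univ.filter fun y : S4 => y * a = a * y).card = 8 := by
  decide +kernel

theorem card_cent_pair : ∀ a : S4, (a * a = 1 ∧ a ≠ 1 ∧ sign a = 1) →
    ∀ b : S4, (b * b = 1 ∧ b ≠ 1 ∧ b ≠ a ∧ b * a = a * b) →
      (Finset.univ.filter fun y : S4 => y * a = a * y ∧ y * b = b * y).card = 4 := by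
  decide +kernel

theorem card_cent_outer : ∀ a : S4, (a * a = 1 ∧ sign a = -1) →
    (Finset.univ.filter fun y : S4 => y * a = a * y).card = 4 := by
  decide +kernel

theorem card_outer : (Finset.univ.filter fun y : S4 => y * y = 1 ∧ sign y = -1).card = 6 := by
  decide +kernel

/-- The double transposition commuting with a transposition, as a point. -/
def pairIndex (a : S4) : Fin 4 :=
  if a 0 ≠ 0 then a 0 else if a 1 = 1 then 1 else if a 2 = 2 then 2 else 3

theorem pairIndex_ne_zero : ∀ a : S4, (a * a = 1 ∧ sign a = -1) → pairIndex a ≠ 0 := by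
  decide +kernel

theorem commute_of_pairIndex : ∀ a : S4, (a * a = 1 ∧ sign a = -1) →
    ∀ b : S4, (b * b = 1 ∧ sign b = -1) → pairIndex a = pairIndex b → a * b = b * a := by
  decide +kernel

set_option synthInstance.maxSize 2000 in
theorem dihedral_of_three : ∀ a : S4, (a * a = 1 ∧ sign a = -1) →
    ∀ b : S4, (b * b = 1 ∧ sign b = -1 ∧ b ≠ a ∧ a * b = b * a) →
    ∀ x : S4, (x * x = 1 ∧ sign x = -1 ∧ x ≠ a ∧ x ≠ b) →
      (fun z => z ≠ 1 ∧ z ≠ a ∧ z ≠ b ∧ z ≠ a * b ∧ z * (a * b) = a * b * z)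
        (x * (a * b) * x⁻¹) := by
  decide +kernel

theorem mul_of_commuting : ∀ a : S4, (a * a = 1 ∧ sign a = -1) →
    ∀ b : S4, (b * b = 1 ∧ sign b = -1 ∧ b ≠ a ∧ a * b = b * a) →
      sign (a * b) = 1 ∧ a * b ≠ 1 ∧ a * b ≠ a ∧ a * b ≠ b := by
  decide +kernel

/-- Four transpositions generate a dihedral group of order eight. -/
theorem four_outer {T : Finset S4} (hT : ∀ y ∈ T, y * y = 1 ∧ sign y = -1) (h4 : 4 ≤ T.card) :
    ∃ a ∈ T, ∃ b ∈ T, ∃ x ∈ T, b ≠ a ∧ a * b = b * a ∧ x ≠ a ∧ x ≠ b := by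
  obtain ⟨a, ha, b, hb, hab, he⟩ := Finset.exists_ne_map_eq_of_card_lt_of_maps_to
    (t := Finset.univ.erase (0 : Fin 4)) (s := T) (f := pairIndex)
    (by rw [Finset.card_erase_of_mem (Finset.mem_univ _), Finset.card_univ, Fintype.card_fin]; omega)
    (fun y hy => Finset.mem_erase.2 ⟨pairIndex_ne_zero y (hT y hy), Finset.mem_univ _⟩)
  obtain ⟨x, hx, hxab⟩ := Finset.exists_mem_notMem_of_card_lt_card (s := {a, b}) (t := T)
    (Finset.card_le_two.trans_lt (by omega))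
  simp only [Finset.mem_insert, Finset.mem_singleton, not_or] at hxab
  exact ⟨a, ha, b, hb, x, hx, hab.symm, commute_of_pairIndex a (hT a ha) b (hT b hb) he, hxab.1, hxab.2⟩

end Cfsg.Agent.H10.GW.SymFour
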