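import Cfsg.Agent.H10.GW.AltAction
import Cfsg.Agent.H10.GW.SymFour
import Cfsg.Agent.H35.GW.Numeric

/-!
# Gorenstein–Walter, the last step: the case `M / W = S₄`: the order of `G`
-/

set_option autoImplicit false
set_option linter.unusedSectionVars false
set_option linter.style.haveILetI false

namespace Cfsg.Agent.H10.GW

open Subgroup Cfsg.Agent Cfsg.Agent.GW

universe u

variable {G : Type u} [Group G] [Finite G] {S : Sylow 2 G} {l : ℕ} {c s : G} {M : Subgroup G}

/-- `y ↦` its image in `S₄`. -/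
noncomputable def proj (e : M ⧸ Cfsg.oddCore M ≃* Equiv.Perm (Fin 4)) : M →* Equiv.Perm (Fin 4) :=
  e.toMonoidHom.comp (QuotientGroup.mk' _)

namespace AltPM

variable (h : AltPM S l c s M) (e : M ⧸ Cfsg.oddCore M ≃* Equiv.Perm (Fin 4))
include h

theorem proj_surjective : Function.Surjective (proj e) :=
  e.surjective.comp (QuotientGroup.mk'_surjective _)

theorem proj_eq_one {m : M} : proj e m = 1 ↔ (m : G) ∈ coreIn M := by
  rw [← h.mk_eq_one_iff, ← map_eq_one_iff e.toMonoidHom e.injective]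
  rfl

theorem proj_eq_iff {a b : M} : proj e a = proj e b ↔ (a : M ⧸ Cfsg.oddCore M) = b :=
  ⟨fun he => e.injective he, fun he => congrArg e he⟩

theorem t_proj : proj e ⟨c ^ l, h.t_mem⟩ * proj e ⟨c ^ l, h.t_mem⟩ = 1 ∧
    proj e ⟨c ^ l, h.t_mem⟩ ≠ 1 ∧ Equiv.Perm.sign (proj e ⟨c ^ l, h.t_mem⟩) = 1 := by
  have hK : ((alternatingGroup (Fin 4)).comap e.toMonoidHom).index = 2 := by
    rw [(alternatingGroup (Fin 4)).index_comap_of_surjective e.surjective, alternatingGroup.index_eq_two]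
  refine ⟨?_, fun he => h.mk_t_ne_one ((map_eq_one_iff e.toMonoidHom e.injective).1 he), ?_⟩
  · rw [← map_mul, show (⟨c ^ l, h.t_mem⟩ : M) * ⟨c ^ l, h.t_mem⟩ = 1 from Subtype.ext h.t_sq, map_one]
  · exact Equiv.Perm.mem_alternatingGroup.1 (h.index_two_facts hK).1

theorem s_proj : proj e ⟨s, h.s_mem⟩ * proj e ⟨s, h.s_mem⟩ = 1 ∧ proj e ⟨s, h.s_mem⟩ ≠ 1 ∧
    proj e ⟨s, h.s_mem⟩ ≠ proj e ⟨c ^ l, h.t_mem⟩ ∧ Equiv.Perm.sign (proj e ⟨s, h.s_mem⟩) = 1 := by
  have hK : ((alternatingGroup (Fin 4)).comap e.toMonoidHom).index = 2 := by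
    rw [(alternatingGroup (Fin 4)).index_comap_of_surjective e.surjective, alternatingGroup.index_eq_two]
  refine ⟨?_, fun he => h.mk_s_ne_one ((map_eq_one_iff e.toMonoidHom e.injective).1 he),
    fun he => h.mk_t_ne_s ((h.proj_eq_iff e).1 he).symm, ?_⟩
  · rw [← map_mul, show (⟨s, h.s_mem⟩ : M) * ⟨s, h.s_mem⟩ = 1 from
      Subtype.ext (H39.mul_self_of_orderOf_eq_two h.cfg.gen.os), map_one]
  · exact Equiv.Perm.mem_alternatingGroup.1 (h.index_two_facts hK).2.1

theorem u_proj : proj e ⟨c * s, h.u_mem⟩ * proj e ⟨c * s, h.u_mem⟩ = 1 ∧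
    Equiv.Perm.sign (proj e ⟨c * s, h.u_mem⟩) = -1 := by
  have hK : ((alternatingGroup (Fin 4)).comap e.toMonoidHom).index = 2 := by
    rw [(alternatingGroup (Fin 4)).index_comap_of_surjective e.surjective, alternatingGroup.index_eq_two]
  refine ⟨?_, (Int.units_eq_one_or _).resolve_left fun he =>
    (h.index_two_facts hK).2.2 (Equiv.Perm.mem_alternatingGroup.2 he)⟩
  rw [← map_mul, show (⟨c * s, h.u_mem⟩ : M) * ⟨c * s, h.u_mem⟩ = 1 from Subtype.ext h.u_sq, map_one]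

theorem commute_of_even {m : M} (hm : Equiv.Perm.sign (proj e m) = 1) :
    ∀ w ∈ coreIn M, Commute (m : G) w :=
  h.toAltData.commute_of_mk_mem (h.toAltData.alt_le_kerBar e) (Equiv.Perm.mem_alternatingGroup.2 hm)

theorem inverts_of_odd {m : M} (hm : Equiv.Perm.sign (proj e m) = -1) :
    ∀ w ∈ coreIn M, (m : G) * w * (m : G)⁻¹ = w⁻¹ := by
  intro w hw
  have h1 : Commute ((m : G) * (c * s)) w⁻¹ := h.commute_of_even e (m := m * ⟨c * s, h.u_mem⟩)
    (by rw [map_mul, map_mul, hm, (h.u_proj e).2]; decide) _ (inv_mem hw)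
  calc (m : G) * w * (m : G)⁻¹
      = (m : G) * (c * s) * w⁻¹ * ((m : G) * (c * s))⁻¹ := by
        nth_rewrite 1 [show w = c * s * w⁻¹ * (c * s)⁻¹ by rw [h.u_inverts_W (inv_mem hw), inv_inv]]
        group
    _ = w⁻¹ := by rw [h1.eq, mul_inv_cancel_right]

/-- `O(C(t)) = W`. -/
theorem core_eq (e : M ⧸ Cfsg.oddCore M ≃* Equiv.Perm (Fin 4)) : coreAt (c ^ l) = coreIn M := by
  refine le_antisymm (fun x hx => ?_) h.W_le_core
  have hxC := h.coreAt_le hx
  have hxM : x ∈ M := h.two.contains hxC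
  refine (h.proj_eq_one e (m := ⟨x, hxM⟩)).1 (SymFour.odd_fix _ ⟨(h.t_proj e).1, (h.t_proj e).2.1⟩ _
    ⟨perm_four_odd ?_, ?_⟩)
  · refine Odd.of_dvd_nat ?_ (orderOf_map_dvd (proj e) _)
    rw [← Subgroup.orderOf_coe]
    exact odd_orderOf_of_mem h.odd_coreAt hx
  · rw [← map_mul, ← map_mul]
    exact congrArg _ (Subtype.ext (mem_centralizer_singleton_iff.1 hxC))

theorem l_eq (e : M ⧸ Cfsg.oddCore M ≃* Equiv.Perm (Fin 4)) : l = 2 := by
  obtain ⟨k, hk, hk1⟩ := h.exists_two_pow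
  have hd := h.four_l_dvd
  rw [Nat.card_congr e.toEquiv, SymFour.card_perm] at hd
  have := Nat.le_of_dvd (by norm_num) hd
  rcases k with _ | _ | k
  · omega
  · simpa using hk
  · exfalso
    obtain ⟨m, rfl⟩ : ∃ m, l = 4 * m := ⟨2 ^ k, by rw [hk, pow_succ, pow_succ]; ring⟩
    have h16 : 16 ∣ 24 := dvd_trans (⟨m, by ring⟩ : 16 ∣ 4 * (4 * m)) hd
    norm_num at h16

theorem card_M (e : M ⧸ Cfsg.oddCore M ≃* Equiv.Perm (Fin 4)) :
    Nat.card M = 24 * Nat.card (coreIn M) := by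
  rw [Subgroup.card_eq_card_quotient_mul_card_subgroup (Cfsg.oddCore M), Nat.card_congr e.toEquiv,
    SymFour.card_perm]
  congr 1
  rw [coreIn, Subgroup.card_subtype]

/-- The order of a subgroup of `M` from its meet with `W` and its image. -/
theorem card_eq_mul {H : Subgroup G} (hH : H ≤ M) :
    Nat.card H = Nat.card ↥(H ⊓ coreIn M) * Nat.card ↥((H.subgroupOf M).map (proj e)) := by
  have h1 := Subgroup.card_mul_index ((proj e).comp (H.subgroupOf M).subtype).ker
  rw [Subgroup.index_ker, MonoidHom.range_comp, Subgroup.range_subtype,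
    Nat.card_congr (Subgroup.subgroupOfEquivOfLe hH).toEquiv] at h1
  rw [← h1]
  congr 1
  refine Nat.card_congr
    { toFun := fun x => ⟨((x.1 : M) : G), mem_subgroupOf.1 x.1.2,
        (h.proj_eq_one e).1 (MonoidHom.mem_ker.1 x.2)⟩
      invFun := fun y => ⟨⟨⟨y.1, hH y.2.1⟩, mem_subgroupOf.2 y.2.1⟩,
        MonoidHom.mem_ker.2 ((h.proj_eq_one e).2 y.2.2)⟩
      left_inv := fun _ => rfl
      right_inv := fun _ => rfl }

theorem centralizer_pair_le {b : G} : centralizer ({c ^ l, b} : Set G) ≤ M := fun _ hx =>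
  h.two.contains (Subgroup.centralizer_le (Set.singleton_subset_iff.2 (Set.mem_insert _ _)) hx)

theorem card_cent_t (e : M ⧸ Cfsg.oddCore M ≃* Equiv.Perm (Fin 4)) :
    Nat.card (centralizer ({c ^ l} : Set G)) = 8 * Nat.card (coreIn M) := by
  classical
  rw [h.card_eq_mul e h.two.contains, mul_comm 8]
  congr 1
  · congr 2
    exact inf_eq_right.2 fun w hw => mem_centralizer_singleton_iff.2 (h.t_commute_W hw).eq.symm
  · rw [← SymFour.card_cent_inner _ ⟨(h.t_proj e).1, (h.t_proj e).2.1, (h.t_proj e).2.2⟩,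
      ← Nat.card_eq_finsetCard]
    congr 1
    refine congrArg _ ?_
    ext y
    simp only [mem_map, Finset.mem_filter, Finset.mem_univ, true_and]
    constructor
    · rintro ⟨m, hm, rfl⟩
      rw [← map_mul, ← map_mul]
      exact congrArg _ (Subtype.ext (mem_centralizer_singleton_iff.1 (mem_subgroupOf.1 hm)))
    · intro hy
      obtain ⟨m, rfl⟩ := h.proj_surjective e y
      refine ⟨m, mem_subgroupOf.2 (mem_centralizer_singleton_iff.2 ?_), rfl⟩
      have he : ((m * ⟨c ^ l, h.t_mem⟩ * m⁻¹ : M) : M ⧸ Cfsg.oddCore M) = (⟨c ^ l, h.t_mem⟩ : M) := by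
        refine (h.proj_eq_iff e).1 ?_
        rw [map_mul, map_mul, map_inv, hy, mul_inv_cancel_right]
      have hl := h.lift_unique (by
        rw [show m * ⟨c ^ l, h.t_mem⟩ * m⁻¹ * (m * ⟨c ^ l, h.t_mem⟩ * m⁻¹) =
          m * (⟨c ^ l, h.t_mem⟩ * ⟨c ^ l, h.t_mem⟩) * m⁻¹ by group,
          show (⟨c ^ l, h.t_mem⟩ : M) * ⟨c ^ l, h.t_mem⟩ = 1 from Subtype.ext h.t_sq]
        group) (Subtype.ext h.t_sq) he fun w hw => h.t_commute_W hw
      exact mul_inv_eq_iff_eq_mul.1 (congrArg Subtype.val hl)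

theorem card_cent_ts (e : M ⧸ Cfsg.oddCore M ≃* Equiv.Perm (Fin 4)) :
    Nat.card (centralizer ({c ^ l, s} : Set G)) = 4 * Nat.card (coreIn M) := by
  classical
  have hts : proj e ⟨s, h.s_mem⟩ * proj e ⟨c ^ l, h.t_mem⟩ =
      proj e ⟨c ^ l, h.t_mem⟩ * proj e ⟨s, h.s_mem⟩ := by
    rw [← map_mul, ← map_mul]
    exact congrArg _ (Subtype.ext (h.commute_t h.cfg.gen.mem_s).eq)
  rw [h.card_eq_mul e h.centralizer_pair_le, mul_comm 4]
  congr 1
  · congr 2
    refine inf_eq_right.2 fun w hw => mem_centralizer_iff.2 ?_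
    rintro x (rfl | hx)
    · exact (h.t_commute_W hw).eq
    · rw [Set.mem_singleton_iff.1 hx]; exact (h.s_commute_W hw).eq
  · refine Eq.trans ?_ (SymFour.card_cent_pair _ ⟨(h.t_proj e).1, (h.t_proj e).2.1, (h.t_proj e).2.2⟩ _
      ⟨(h.s_proj e).1, (h.s_proj e).2.1, (h.s_proj e).2.2.1, hts⟩)
    rw [← Nat.card_eq_finsetCard]
    refine congrArg _ (congrArg _ ?_)
    ext y
    simp only [mem_map, Finset.mem_filter, Finset.mem_univ, true_and]
    constructor
    · rintro ⟨m, hm, rfl⟩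
      have hm' := mem_centralizer_iff.1 (mem_subgroupOf.1 hm)
      simp only [← map_mul]
      exact ⟨congrArg _ (Subtype.ext (hm' _ (Set.mem_insert _ _)).symm),
        congrArg _ (Subtype.ext (hm' _ (Set.mem_insert_of_mem _ rfl)).symm)⟩
    · rintro ⟨hy1, hy2⟩
      obtain ⟨m, rfl⟩ := h.proj_surjective e y
      refine ⟨m, mem_subgroupOf.2 (mem_centralizer_iff.2 ?_), rfl⟩
      have key : ∀ a : M, a * a = 1 → (∀ w ∈ coreIn M, Commute (a : G) w) →
          proj e m * proj e a = proj e a * proj e m → (a : G) * m = m * a := by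
        intro a ha hc hy
        have he : ((m * a * m⁻¹ : M) : M ⧸ Cfsg.oddCore M) = (a : M) := by
          refine (h.proj_eq_iff e).1 ?_
          rw [map_mul, map_mul, map_inv, hy, mul_inv_cancel_right]
        have hl := h.lift_unique (by
          rw [show m * a * m⁻¹ * (m * a * m⁻¹) = m * (a * a) * m⁻¹ by group, ha]
          group) ha he hc
        exact (mul_inv_eq_iff_eq_mul.1 (congrArg Subtype.val hl)).symm
      rintro x (rfl | hx)
      · exact key ⟨c ^ l, h.t_mem⟩ (Subtype.ext h.t_sq) (fun w hw => h.t_commute_W hw) hy1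
      · rw [Set.mem_singleton_iff.1 hx]
        exact key ⟨s, h.s_mem⟩ (Subtype.ext (H39.mul_self_of_orderOf_eq_two h.cfg.gen.os))
          (fun w hw => h.s_commute_W hw) hy2

theorem card_cent_tu (e : M ⧸ Cfsg.oddCore M ≃* Equiv.Perm (Fin 4)) :
    Nat.card (centralizer ({c ^ l, c * s} : Set G)) = 4 := by
  classical
  refine le_antisymm ?_ ?_
  · rw [h.card_eq_mul e h.centralizer_pair_le]
    have h1 : centralizer ({c ^ l, c * s} : Set G) ⊓ coreIn M = ⊥ := by
      rw [eq_bot_iff]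
      rintro w ⟨hw, hwW⟩
      have hc := mem_centralizer_iff.1 hw _ (Set.mem_insert_of_mem _ rfl)
      have := h.u_inverts_W hwW
      rw [hc, mul_inv_cancel_right] at this
      refine mem_bot.2 (h.W_eq_one hwW ?_)
      nth_rewrite 1 [this]
      exact inv_mul_cancel w
    rw [h1, Subgroup.card_bot, one_mul]
    refine le_trans ?_ (SymFour.card_cent_outer _ (h.u_proj e)).le
    rw [← Nat.card_eq_finsetCard]
    refine Nat.card_le_card_of_injective
      (fun y => ⟨(y : Equiv.Perm (Fin 4)), ?_⟩) fun a b hab => Subtype.ext (Subtype.ext_iff.1 hab :)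
    obtain ⟨m, hm, hmy⟩ := y.2
    simp only [Finset.mem_filter, Finset.mem_univ, true_and, ← hmy, ← map_mul]
    exact congrArg _ (Subtype.ext
      (mem_centralizer_iff.1 (mem_subgroupOf.1 hm) _ (Set.mem_insert_of_mem _ rfl)).symm)
  · rw [← Cores.card_inf_centralizer_reflection h.cfg.gen h.two.two_le h.u_mem_sylow (by
      simpa using h.cfg.gen.out_not_mem 1)]
    refine Subgroup.card_le_of_le ?_
    rintro x ⟨hxS, hxu⟩
    refine mem_centralizer_iff.2 ?_
    rintro y (rfl | hy)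
    · exact (h.commute_t hxS).eq.symm
    · rw [Set.mem_singleton_iff.1 hy]; exact (mem_centralizer_singleton_iff.1 hxu).symm

theorem index_pos : 0 < M.index := Nat.pos_of_ne_zero Subgroup.index_ne_zero_of_finite

theorem odd_index : Odd M.index := by
  haveI : Fact (Nat.Prime 2) := ⟨Nat.prime_two⟩
  refine Nat.not_even_iff_odd.1 fun he => S.not_dvd_index ?_
  exact he.two_dvd.trans (Subgroup.index_dvd_of_le h.sylow_le)

/-- The order formula. -/
theorem index_formula (e : M ⧸ Cfsg.oddCore M ≃* Equiv.Perm (Fin 4)) :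
    ∃ (k : ℕ) (δ : ℤ), (δ = 1 ∨ δ = -1) ∧ 1 ≤ k ∧
      12 * (M.index : ℤ) * (k : ℤ) ^ 2 =
        (8 * (k : ℤ) + δ) * (4 * (k : ℤ) + δ) * ((Nat.card (coreIn M) : ℤ) + 1) ^ 2 := by
  have hone : ∀ a b : G, orderOf a = 2 → orderOf b = 2 → IsConj a b := fun a b ha hb =>
    (h.cfg.gen.isConj_z_of_no_index_two h.no_index_two ha).symm.trans
      (h.cfg.gen.isConj_z_of_no_index_two h.no_index_two hb)
  obtain ⟨x, δ, hδ, hx, hne, hdvd, hq⟩ := H35.GW.exists_order_formula h.cfg.gen h.two.two_le hone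
  rw [h.card_sylow, h.l_eq e] at hdvd
  obtain ⟨k, hk⟩ := hdvd
  push_cast at hk
  have hk1 : 1 ≤ k := by rcases hδ with rfl | rfl <;> omega
  refine ⟨k.toNat, δ, hδ, by omega, ?_⟩
  rw [Int.toNat_of_nonneg (by omega)]
  set d := Nat.card (coreIn M) with hd
  have hd0 : (d : ℚ) ≠ 0 := Nat.cast_ne_zero.2 Nat.card_pos.ne'
  have hk0 : (k : ℚ) ≠ 0 := by exact_mod_cast (show k ≠ 0 by omega)
  have hxk : (x : ℚ) = 8 * (k : ℚ) + (δ : ℚ) := by
    have h8 : (x : ℤ) = 8 * k + δ := by omega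
    exact_mod_cast congrArg (Int.cast : ℤ → ℚ) h8
  rw [← M.card_mul_index, h.card_M e, H35.GW.ratio, H35.GW.localTerm, h.card_cent_t e,
    h.card_cent_ts e, h.card_cent_tu e, hxk, ← hd] at hq
  push_cast at hq
  rw [show (8 : ℚ) * k + δ - δ = 8 * k by ring] at hq
  field_simp at hq
  have hδ2 : (δ : ℚ) * δ = 1 := by rcases hδ with rfl | rfl <;> norm_num
  have : (12 : ℚ) * (M.index : ℚ) * (k : ℚ) ^ 2 =
      (8 * (k : ℚ) + δ) * (4 * (k : ℚ) + δ) * ((d : ℚ) + 1) ^ 2 := by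
    linear_combination hq / 32
  exact_mod_cast this

end AltPM

end Cfsg.Agent.H10.GW
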