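import Cfsg.Agent.H10.GW.AltLarge
import Cfsg.Agent.H10.GW.AltCount
import Cfsg.Agent.S0984

/-!
# Gorenstein–Walter: a two-class overgroup with `D' = 1` forces `A₇`
-/

set_option autoImplicit false
set_option linter.unusedSectionVars false
set_option linter.style.haveILetI false

namespace Cfsg.Agent.H10.GW

open Subgroup Cfsg.Agent Cfsg.Agent.GW

universe u

theorem arith_plus {n d k : ℕ} (hd : 5 ≤ d) (hk : 1 ≤ k) (hlow : 4 * d ^ 2 + 1 ≤ n)
    (he : 12 * n * k ^ 2 = (8 * k + 1) * (4 * k + 1) * (d + 1) ^ 2) : d ≤ 30 ∧ k ≤ 7 := by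
  have h1 : 12 * (4 * d ^ 2 + 1) * k ^ 2 ≤ (8 * k + 1) * (4 * k + 1) * (d + 1) ^ 2 := by
    rw [← he]; exact Nat.mul_le_mul_right _ (Nat.mul_le_mul_left _ hlow)
  constructor
  · have h2 : (8 * k + 1) * (4 * k + 1) ≤ 45 * k ^ 2 := by nlinarith
    have h3 : 12 * (4 * d ^ 2 + 1) * k ^ 2 ≤ 45 * (d + 1) ^ 2 * k ^ 2 :=
      h1.trans (by
        calc _ ≤ 45 * k ^ 2 * (d + 1) ^ 2 := Nat.mul_le_mul_right _ h2
          _ = _ := by ring)
    have h4 := Nat.le_of_mul_le_mul_right h3 (by positivity)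
    nlinarith
  · by_contra hk8
    have h2 : 25 * ((8 * k + 1) * (4 * k + 1)) ≤ 838 * k ^ 2 := by nlinarith
    have h3 : 25 * (12 * (4 * d ^ 2 + 1)) * k ^ 2 ≤ 838 * (d + 1) ^ 2 * k ^ 2 := by
      calc _ = 25 * (12 * (4 * d ^ 2 + 1) * k ^ 2) := by ring
        _ ≤ 25 * ((8 * k + 1) * (4 * k + 1) * (d + 1) ^ 2) := Nat.mul_le_mul_left _ h1
        _ = 25 * ((8 * k + 1) * (4 * k + 1)) * (d + 1) ^ 2 := by ring
        _ ≤ 838 * k ^ 2 * (d + 1) ^ 2 := Nat.mul_le_mul_right _ h2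
        _ = _ := by ring
    have h4 := Nat.le_of_mul_le_mul_right h3 (by positivity)
    nlinarith

theorem arith_minus {n d k : ℕ} (hd : 5 ≤ d) (hk : 1 ≤ k) (hlow : 4 * d ^ 2 + 1 ≤ n)
    (he : 12 * (n : ℤ) * (k : ℤ) ^ 2 = (8 * (k : ℤ) - 1) * (4 * k - 1) * ((d : ℤ) + 1) ^ 2) :
    False := by
  have hk' : (1 : ℤ) ≤ k := by exact_mod_cast hk
  have hd' : (5 : ℤ) ≤ d := by exact_mod_cast hd
  have hlow' : 4 * (d : ℤ) ^ 2 + 1 ≤ n := by exact_mod_cast hlow
  have h2 : (8 * (k : ℤ) - 1) * (4 * k - 1) ≤ 32 * (k : ℤ) ^ 2 := by nlinarith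
  have h3 : 12 * (4 * (d : ℤ) ^ 2 + 1) * (k : ℤ) ^ 2 ≤ 32 * ((d : ℤ) + 1) ^ 2 * (k : ℤ) ^ 2 := by
    calc _ ≤ 12 * (n : ℤ) * (k : ℤ) ^ 2 := by nlinarith
      _ = _ := he
      _ ≤ 32 * (k : ℤ) ^ 2 * ((d : ℤ) + 1) ^ 2 := mul_le_mul_of_nonneg_right h2 (sq_nonneg _)
      _ = _ := by ring
  have h4 := le_of_mul_le_mul_right h3 (by positivity)
  nlinarith

theorem arith_large {n d k : ℕ} {δ : ℤ} (hδ : δ = 1 ∨ δ = -1) (hd : 5 ≤ d) (hdodd : Odd d)
    (hn : Odd n) (hk : 1 ≤ k) (hlow : 4 * d ^ 2 + 1 ≤ n) (hmod : n % d = 1)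
    (he : 12 * (n : ℤ) * (k : ℤ) ^ 2 =
      (8 * (k : ℤ) + δ) * (4 * (k : ℤ) + δ) * ((d : ℤ) + 1) ^ 2) : False := by
  rcases hδ with rfl | rfl
  · have he' : 12 * n * k ^ 2 = (8 * k + 1) * (4 * k + 1) * (d + 1) ^ 2 := by exact_mod_cast he
    obtain ⟨h30, h7⟩ := arith_plus hd hk hlow he'
    obtain ⟨j, rfl⟩ := hdodd
    obtain ⟨i, rfl⟩ := hn
    have hj : j ≤ 14 := by omega
    interval_cases k <;> interval_cases j <;> omega
  · exact arith_minus hd hk hlow (by linear_combination he)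

theorem arith_three {n k : ℕ} {δ : ℤ} (hδ : δ = 1 ∨ δ = -1) (hn : Odd n) (hk : 1 ≤ k)
    (he : 12 * (n : ℤ) * (k : ℤ) ^ 2 =
      (8 * (k : ℤ) + δ) * (4 * (k : ℤ) + δ) * (((3 : ℕ) : ℤ) + 1) ^ 2) : n = 35 ∨ n = 51 := by
  push_cast at he
  have hδ2 : δ * δ = 1 := by rcases hδ with rfl | rfl <;> norm_num
  have h5 : 4 * ((k : ℤ) * (3 * n * k - 128 * k - 48 * δ)) = 4 * 4 := by
    linear_combination he + 16 * hδ2
  have h4 : (k : ℤ) * (3 * n * k - 128 * k - 48 * δ) = 4 := mul_left_cancel₀ (by norm_num) h5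
  have hk4 : (k : ℤ) ∣ 4 := ⟨_, h4.symm⟩
  have hk5 : k ∣ 4 := by exact_mod_cast hk4
  have hk6 := Nat.le_of_dvd (by norm_num) hk5
  obtain ⟨i, rfl⟩ := hn
  push_cast at he
  rcases hδ with rfl | rfl <;> interval_cases k <;> first | omega | (norm_num at he; done) | (norm_num at he; omega)

variable {G : Type u} [Group G] [Finite G]

theorem AltPM.card_W_three {S : Sylow 2 G} {l : ℕ} {c s : G} {M : Subgroup G} (h : AltPM S l c s M)
    (e : M ⧸ Cfsg.oddCore M ≃* Equiv.Perm (Fin 4)) :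
    Nat.card (coreIn M) = 3 ∧ (M.index = 35 ∨ M.index = 51) := by
  obtain ⟨k, δ, hδ, hk, he⟩ := h.index_formula e
  by_cases hd : 3 < Nat.card (coreIn M)
  · exfalso
    have h5 : 5 ≤ Nat.card (coreIn M) := by
      obtain ⟨j, hj⟩ := h.odd_W; omega
    obtain ⟨j, hj⟩ := h.index_mod hd e
    exact arith_large hδ h5 h.odd_W h.odd_index hk (h.index_lower hd e) (by
      rw [hj, Nat.add_mul_mod_self_right, Nat.one_mod_eq_one]; omega) he
  have h3 : Nat.card (coreIn M) = 3 := by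
    obtain ⟨j, hj⟩ := h.odd_W
    obtain ⟨w, hw, hw1⟩ := h.exists_W
    have h1 : Nat.card (coreIn M) ≠ 1 := fun e1 => hw1 (mem_bot.1 (Subgroup.card_eq_one.1 e1 ▸ hw))
    omega
  rw [h3] at he
  exact ⟨h3, arith_three hδ h.odd_index hk he⟩

/-- The order is not `3672`. -/
theorem AltPM.card_ne {S : Sylow 2 G} {l : ℕ} {c s : G} {M : Subgroup G} (h : AltPM S l c s M)
    (e : M ⧸ Cfsg.oddCore M ≃* Equiv.Perm (Fin 4)) (h3 : Nat.card (coreIn M) = 3)
    (hi : M.index = 51) : False := by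
  haveI := h.cfg.simple
  haveI : Fact (Nat.Prime 17) := ⟨by norm_num⟩
  haveI : Fact (Nat.Prime 2) := ⟨Nat.prime_two⟩
  haveI : Fact (Nat.Prime 3) := ⟨Nat.prime_three⟩
  have hG : Nat.card G = 2 ^ 3 * 3 ^ 3 * 17 := by
    rw [← M.card_mul_index, h.card_M e, h3, hi]; norm_num
  have hct : Nat.card (centralizer ({c ^ l} : Set G)) = 24 := by rw [h.card_cent_t e, h3]
  obtain ⟨P⟩ : Nonempty (Sylow 17 G) := inferInstance
  have hP : Nat.card (P : Subgroup G) = 17 := by
    obtain ⟨a, ha⟩ := IsPGroup.iff_card.1 P.isPGroup'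
    have hd : 17 ^ a ∣ 2 ^ 3 * 3 ^ 3 * 17 := by
      rw [← ha, ← hG]; exact Subgroup.card_subgroup_dvd_card _
    have h17 : 17 ∣ 17 ^ a := by
      rw [← ha]; exact P.dvd_card_of_dvd_card (hG ▸ dvd_mul_left 17 _)
    have hle := Nat.le_of_dvd (by norm_num) hd
    rw [ha]
    rcases a with _ | _ | _ | a
    · norm_num at h17
    · norm_num
    · norm_num at hd
    · exfalso
      have h8 : 17 ^ 3 ≤ 17 ^ (a + 1 + 1 + 1) := Nat.pow_le_pow_right (by norm_num) (by omega)
      omega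
  haveI : IsCyclic (P : Subgroup G) := isCyclic_of_prime_card hP
  have hidx : (P : Subgroup G).index = 216 := by
    have := (P : Subgroup G).card_mul_index
    rw [hP, hG] at this
    norm_num at this
    omega
  have hn : Nat.card (Sylow 17 G) = 18 := by
    have hd := P.card_dvd_index
    rw [hidx] at hd
    have hm := card_sylow_modEq_one 17 G
    have hle := Nat.le_of_dvd (by norm_num) hd
    have hne : Nat.card (Sylow 17 G) ≠ 1 := by
      intro h1
      rw [P.card_eq_index_normalizer, Subgroup.index_eq_one] at h1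
      haveI := normalizer_eq_top_iff.1 h1
      rcases IsSimpleGroup.eq_bot_or_eq_top_of_normal (P : Subgroup G) inferInstance with e1 | e1
      · rw [e1, Subgroup.card_bot] at hP; norm_num at hP
      · rw [e1, Subgroup.card_top, hG] at hP; norm_num at hP
    unfold Nat.ModEq at hm
    generalize Nat.card (Sylow 17 G) = a at *
    interval_cases a <;> first | rfl | omega
  set N := normalizer ((P : Subgroup G) : Set G) with hN
  have hNc : Nat.card N = 204 := by
    have := N.card_mul_index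
    rw [show N.index = Nat.card (Sylow 17 G) from P.card_eq_index_normalizer.symm, hn, hG] at this
    norm_num at this
    omega
  set f : N →* MulAut (P : Subgroup G) := (P : Subgroup G).normalizerMonoidHom with hf
  have hker : ∀ m : N, m ∈ f.ker ↔ (m : G) ∈ centralizer ((P : Subgroup G) : Set G) := fun m => by
    rw [hf, Subgroup.normalizerMonoidHom_ker, mem_subgroupOf]
  have hrange : Nat.card f.range ∣ 16 := by
    have := Subgroup.card_subgroup_dvd_card f.range
    rwa [IsCyclic.card_mulAut, hP, Nat.totient_prime (by norm_num)] at this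
  have hkc : Nat.card f.ker * Nat.card f.range = 204 := by
    rw [← Subgroup.index_ker, Subgroup.card_mul_index, hNc]
  have hconjv : ∀ g v : G, g * c ^ l * g⁻¹ = v → g⁻¹ * v * g = c ^ l := fun g v hgv => by
    rw [← hgv]; group
  have hfix : ∀ v : G, orderOf v = 2 → ¬ 17 ∣ Nat.card (centralizer ({v} : Set G)) := by
    intro v hv
    obtain ⟨g, hg⟩ := h.exists_conj hv
    intro h17
    obtain ⟨x, hx⟩ := exists_prime_orderOf_dvd_card' 17 h17
    rw [← Subgroup.orderOf_coe] at hx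
    have hxc : Commute (g⁻¹ * (x : G) * g) (c ^ l) := by
      have := (Commute.conj_iff g⁻¹).2 (mem_centralizer_singleton_iff.1 x.2 : Commute (x : G) v)
      rwa [inv_inv, hconjv g _ hg] at this
    have hd := orderOf_dvd_natCard (⟨_, mem_centralizer_singleton_iff.2 hxc.eq⟩ :
      ↥(centralizer ({c ^ l} : Set G)))
    have ho := H39.orderOf_conj g⁻¹ (x : G)
    rw [inv_inv] at ho
    rw [Subgroup.orderOf_mk, ho, hx, hct] at hd
    norm_num at hd
  have hPle : ∀ x ∈ (P : Subgroup G), ∀ m : N, m ∈ f.ker → Commute (m : G) x := fun x hx m hm =>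
    (mem_centralizer_iff.1 ((hker m).1 hm) x hx).symm
  have hodd : ¬ 2 ∣ Nat.card f.ker := by
    intro h2
    obtain ⟨v, hv⟩ := exists_prime_orderOf_dvd_card' 2 h2
    rw [← Subgroup.orderOf_coe, ← Subgroup.orderOf_coe] at hv
    refine hfix _ hv ?_
    have hd := Subgroup.card_dvd_of_le (H := (P : Subgroup G))
      (K := centralizer ({((v : N) : G)} : Set G)) fun x hx =>
        mem_centralizer_singleton_iff.2 (hPle x hx v v.2).eq.symm
    rwa [hP] at hd
  have hk51 : Nat.card f.ker = 51 := by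
    have hle := Nat.le_of_dvd (by norm_num) hrange
    generalize Nat.card f.range = a at *
    generalize Nat.card f.ker = b at *
    interval_cases a <;> omega
  -- an element of order three
  obtain ⟨Q⟩ : Nonempty (Sylow 3 f.ker) := inferInstance
  have hQ : Nat.card (Q : Subgroup f.ker) = 3 := by
    obtain ⟨a, ha⟩ := IsPGroup.iff_card.1 Q.isPGroup'
    have hd : 3 ^ a ∣ 51 := by rw [← ha, ← hk51]; exact Subgroup.card_subgroup_dvd_card _
    have h17 : 3 ∣ 3 ^ a := by
      rw [← ha]; exact Q.dvd_card_of_dvd_card (hk51 ▸ (by norm_num : 3 ∣ 51))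
    have hle := Nat.le_of_dvd (by norm_num) hd
    rw [ha]
    rcases a with _ | _ | _ | _ | a
    · norm_num at h17
    · norm_num
    · norm_num at hd
    · norm_num at hd
    · exfalso
      have h8 : 3 ^ 4 ≤ 3 ^ (a + 1 + 1 + 1 + 1) := Nat.pow_le_pow_right (by norm_num) (by omega)
      omega
  have hQn : Nat.card (Sylow 3 f.ker) = 1 := by
    have hd := Q.card_dvd_index
    have hqi := (Q : Subgroup f.ker).card_mul_index
    rw [hQ, hk51] at hqi
    rw [show (Q : Subgroup f.ker).index = 17 by omega] at hd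
    have hm := card_sylow_modEq_one 3 f.ker
    rcases (Nat.dvd_prime (by norm_num)).1 hd with e1 | e1
    · exact e1
    · rw [e1] at hm; exact absurd hm (by decide)
  haveI : Subsingleton (Sylow 3 f.ker) := (Nat.card_eq_one_iff_unique.1 hQn).1
  haveI := Sylow.characteristic_of_subsingleton Q
  set R : Subgroup N := (Q : Subgroup f.ker).map f.ker.subtype with hR
  haveI : R.Normal := by rw [hR]; infer_instance
  have hRc : Nat.card R = 3 := by rw [hR, Subgroup.card_subtype, hQ]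
  haveI : IsCyclic R := isCyclic_of_prime_card hRc
  set g₂ : N →* MulAut R := MulAut.conjNormal with hg₂
  have hr2 : Nat.card g₂.range ∣ 2 := by
    have := Subgroup.card_subgroup_dvd_card g₂.range
    rwa [IsCyclic.card_mulAut, hRc, Nat.totient_prime Nat.prime_three] at this
  have hkc2 : Nat.card g₂.ker * Nat.card g₂.range = 204 := by
    rw [← Subgroup.index_ker, Subgroup.card_mul_index, hNc]
  have h2k : 2 ∣ Nat.card g₂.ker := by
    rcases (Nat.dvd_prime Nat.prime_two).1 hr2 with e1 | e1 <;> rw [e1] at hkc2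
    · exact ⟨102, by omega⟩
    · exact ⟨51, by omega⟩
  obtain ⟨v, hv⟩ := exists_prime_orderOf_dvd_card' 2 h2k
  obtain ⟨y, hy⟩ := exists_prime_orderOf_dvd_card' (G := R) 3 (dvd_of_eq hRc.symm)
  rw [← Subgroup.orderOf_coe, ← Subgroup.orderOf_coe] at hv hy
  have hvy : Commute ((v : N) : G) ((y : N) : G) := by
    have h1 : ((MulAut.conjNormal (v : N) y : R) : N) = (y : N) :=
      congrArg Subtype.val (DFunLike.congr_fun (show g₂ v = 1 from v.2) y)
    rw [MulAut.conjNormal_apply] at h1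
    exact congrArg Subtype.val (mul_inv_eq_iff_eq_mul.1 h1)
  obtain ⟨g, hg⟩ := h.exists_conj hv
  set y' := g⁻¹ * ((y : N) : G) * g with hy'
  have hy'o : orderOf y' = 3 := by
    have ho := H39.orderOf_conj g⁻¹ ((y : N) : G)
    rw [inv_inv] at ho
    rw [hy', ho, hy]
  have hy't : Commute y' (c ^ l) := by
    have := (Commute.conj_iff g⁻¹).2 hvy.symm
    rwa [inv_inv, hconjv g _ hg] at this
  have hy'C : y' ∈ centralizer ({c ^ l} : Set G) := mem_centralizer_singleton_iff.2 hy't.eq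
  have hy'W : y' ∈ coreIn M := by
    refine (h.proj_eq_one e (m := ⟨y', h.two.contains hy'C⟩)).1
      (SymFour.odd_fix _ ⟨(h.t_proj e).1, (h.t_proj e).2.1⟩ _ ⟨perm_four_odd ?_, ?_⟩)
    · refine Odd.of_dvd_nat ?_ (orderOf_map_dvd (proj e) _)
      rw [← Subgroup.orderOf_coe]
      show Odd (orderOf y')
      rw [hy'o]; decide
    · rw [← map_mul, ← map_mul]
      exact congrArg _ (Subtype.ext hy't.eq)
  obtain ⟨x, hx⟩ := exists_prime_orderOf_dvd_card' (G := (P : Subgroup G)) 17 (dvd_of_eq hP.symm)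
  rw [← Subgroup.orderOf_coe] at hx
  have hyk : (y : N) ∈ f.ker := by
    obtain ⟨z, -, hz⟩ := y.2
    exact hz ▸ z.2
  have hxM : g⁻¹ * (x : G) * g ∈ M := by
    refine h.centralizer_le hy'W (fun e1 => by rw [e1, orderOf_one] at hy'o; norm_num at hy'o) ?_
    have := (Commute.conj_iff g⁻¹).2 (hPle x x.2 (y : N) hyk).symm
    rwa [inv_inv] at this
  have hd := orderOf_dvd_natCard (⟨_, hxM⟩ : M)
  have ho := H39.orderOf_conj g⁻¹ (x : G)
  rw [inv_inv] at ho
  rw [Subgroup.orderOf_mk, ho, hx, h.card_M e, h3] at hd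
  norm_num at hd

/-- **The last step of Gorenstein–Walter.** -/
theorem alt_step {S : Sylow 2 G} {l : ℕ} {c s : G} {M : Subgroup G} (hcfg : Cfg S l c s)
    (htc : TwoClass M l c s) (hone : pairCore (c ^ l) (c * s) = ⊥) (hsmall : SmallHyp G) :
    Nonempty (G ≃* alternatingGroup (Fin 7)) := by
  have h : AltData S l c s M := ⟨hcfg, htc, hone⟩
  rcases h.shape hsmall with ⟨F, iF, iT, hodd, h3, ⟨e⟩⟩ | ⟨⟨e⟩⟩
  · exact ((h.pm_pgl hodd h3 e).not_pgl hodd h3 e).elim
  · have hp := h.pm_perm e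
    obtain ⟨hd, hi | hi⟩ := hp.card_W_three e
    · haveI := hcfg.simple
      refine S0984.result ?_
      rw [← M.card_mul_index, hp.card_M e, hd, hi]
    · exact (hp.card_ne e hd hi).elim

/-- `AltStep` of the Gorenstein–Walter interface. -/
theorem altStep : AltStep (G := G) := fun _ _ _ _ hcfg _ htc hone =>
  alt_step hcfg htc hone fun Z _ _ hZ hD => hcfg.small Z hZ hD

end Cfsg.Agent.H10.GW
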